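import Groth.Agent.Lib.RelAss.Affine
import Groth.Agent.Lib.FlatCA.FibreDescend
import Groth.Agent.H47.ChartPullback
import Groth.Agent.Lib.CechRes.PullSec

/-!
# The relative assassin under base change
-/

universe u

open CategoryTheory AlgebraicGeometry

set_option linter.style.haveILetI false

namespace Groth.Agent.Lib.RelAss.BaseChange

open Groth.Agent.Lib

variable {X S X' S' : Scheme.{u}} {f : X ⟶ S} {g : S' ⟶ S} {f' : X' ⟶ S'} {g' : X' ⟶ X}
  [LocallyOfFiniteType f] (hc : IsPullback g' f' f g) (F : X.Modules) [F.IsQuasicoherent]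

include hc in
/-- The relative assassin on matching charts of a base change. -/
theorem chart {W : S.Opens} (hW : IsAffineOpen W) {W' : S'.Opens} (hW' : IsAffineOpen W') (eW : W' ≤ g ⁻¹ᵁ W)
    {V : X.Opens} (hV : IsAffineOpen V) (eV : V ≤ f ⁻¹ᵁ W) {s' : S'} (hs' : s' ∈ W') :
    (∀ x' : X', g' x' ∈ V → f' x' = s' → x' ∈ MoreMor.relAss f' ((Scheme.Modules.pullback g').obj F) →
        g' x' ∈ MoreMor.relAss f F) ∧
      ∀ x : X, x ∈ V → f x = g s' → x ∈ MoreMor.relAss f F →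
        ∃ x' ∈ MoreMor.relAss f' ((Scheme.Modules.pullback g').obj F), f' x' = s' ∧ g' x' = x := by
  haveI : LocallyOfFiniteType f' := MorphismProperty.of_isPullback hc ‹_›
  haveI : ((Scheme.Modules.pullback g').obj F).IsQuasicoherent := QCoh.Pullback.isQCoh_pullback g' F
  let O := g' ⁻¹ᵁ V ⊓ f' ⁻¹ᵁ W'
  have hO : IsAffineOpen O := H47.ChartPullback.isAffineOpen_chart hc hW hV eV hW' eW
  let _ := (f.appLE W V eV).hom.toAlgebra
  let _ := (f'.appLE W' O inf_le_right).hom.toAlgebra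
  let _ := (g.appLE W W' eW).hom.toAlgebra
  let _ := (g'.appLE V O inf_le_left).hom.toAlgebra
  letI : Algebra Γ(S, W) Γ(X', O) :=
    ((algebraMap Γ(X, V) Γ(X', O)).comp (algebraMap Γ(S, W) Γ(X, V))).toAlgebra
  haveI : IsScalarTower Γ(S, W) Γ(X, V) Γ(X', O) := IsScalarTower.of_algebraMap_eq fun _ => rfl
  have hpush := H47.ChartPullback.isPushout_chart hc hW hV eV hW' eW
  haveI : IsScalarTower Γ(S, W) Γ(S', W') Γ(X', O) :=
    IsScalarTower.of_algebraMap_eq fun r => (ConcreteCategory.congr_hom hpush.w r).symm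
  have hpo : Algebra.IsPushout Γ(S, W) Γ(X, V) Γ(S', W') Γ(X', O) :=
    (CommRingCat.isPushout_iff_isPushout.1 hpush).symm
  haveI : Algebra.FiniteType Γ(S', W') Γ(X', O) := f'.finiteType_appLE hW' hO inf_le_right
  let F' := (Scheme.Modules.pullback g').obj F
  letI : Module Γ(X, V) Γ(F', O) := Module.compHom _ (g'.appLE V O inf_le_left).hom
  haveI : IsScalarTower Γ(X, V) Γ(X', O) Γ(F', O) := IsScalarTower.of_algebraMap_smul fun _ _ => rfl
  have hbc := CechRes.PullSec.isBaseChange_mu g' F hV hO inf_le_left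
  let t' := (hW'.primeIdealOf ⟨s', hs'⟩).asIdeal
  let t := (hW.primeIdealOf ⟨g s', eW hs'⟩).asIdeal
  haveI : t'.LiesOver t :=
    ⟨(congrArg PrimeSpectrum.asIdeal (IsAffineOpen.comap_primeIdealOf_appLE W hW W' hW' eW hs')).symm⟩
  constructor
  · intro x' hx'V hx's hass
    subst hx's
    have hx' : x' ∈ O := ⟨hx'V, hs'⟩
    haveI := Affine.liesOver_primeIdealOf f' hW' hO inf_le_right hx'
    obtain ⟨hl, h⟩ := FlatCA.FibreDescend.assoc_comap hpo _ hbc t t' (hO.primeIdealOf ⟨x', hx'⟩).asIdeal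
      ((FlatCA.FibreAss.assoc_iff _ _ _).2 ((Affine.mem_relAss_iff f' hW' hO inf_le_right F' hx').1 hass))
    have hcomap : (hO.primeIdealOf ⟨x', hx'⟩).asIdeal.comap (algebraMap Γ(X, V) Γ(X', O)) =
        (hV.primeIdealOf ⟨g' x', hx'V⟩).asIdeal :=
      congrArg PrimeSpectrum.asIdeal (IsAffineOpen.comap_primeIdealOf_appLE V hV O hO inf_le_left hx')
    haveI := hl
    have h' := (FlatCA.FibreAss.assoc_iff _ t _).1 h
    rw [hcomap] at h'
    have aux : ∀ (s : S) (hs : s ∈ W), f (g' x') = s → (hV.primeIdealOf ⟨g' x', hx'V⟩).asIdeal ∈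
        associatedPrimes Γ(X, V) (_root_.FlatCA.fiberMod (hW.primeIdealOf ⟨s, hs⟩).asIdeal Γ(X, V) Γ(F, V)) →
          g' x' ∈ MoreMor.relAss f F := by
      rintro _ _ rfl h''
      exact (Affine.mem_relAss_iff f hW hV eV F hx'V).2 h''
    exact aux _ (eW hs') (by rw [← Scheme.Hom.comp_apply, hc.w, Scheme.Hom.comp_apply]) h'
  · intro x hx hxs hass
    let P := (hV.primeIdealOf ⟨x, hx⟩).asIdeal
    have aux : ∀ (s : S) (hs : s ∈ W), f x = s → P.LiesOver (hW.primeIdealOf ⟨s, hs⟩).asIdeal ∧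
        P ∈ associatedPrimes Γ(X, V) (_root_.FlatCA.fiberMod (hW.primeIdealOf ⟨s, hs⟩).asIdeal Γ(X, V) Γ(F, V)) := by
      rintro _ _ rfl
      exact ⟨Affine.liesOver_primeIdealOf f hW hV eV hx, (Affine.mem_relAss_iff f hW hV eV F hx).1 hass⟩
    obtain ⟨hl, hP⟩ := aux _ (eW hs') hxs
    haveI : P.LiesOver t := hl
    obtain ⟨Q, hQ, hQP, hQt, hQass⟩ := FlatCA.FibreAss.exists_assoc_over hpo _ hbc t t' P
      ((FlatCA.FibreAss.assoc_iff _ t P).2 hP)
    haveI := hQ
    haveI := hQt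
    obtain ⟨x', hx', hx's, hxQ⟩ := Affine.exists_point f' hW' hO inf_le_right hs' Q hQt
    subst hxQ hx's
    refine ⟨x', (Affine.mem_relAss_iff f' hW' hO inf_le_right F' hx').2
      ((FlatCA.FibreAss.assoc_iff _ t' _).1 hQass), rfl, ?_⟩
    have h1 : hV.primeIdealOf ⟨g' x', hx'.1⟩ = hV.primeIdealOf ⟨x, hx⟩ :=
      (IsAffineOpen.comap_primeIdealOf_appLE V hV O hO inf_le_left hx').symm.trans (PrimeSpectrum.ext hQP.over.symm)
    have h2 := congrArg hV.fromSpec h1
    rwa [IsAffineOpen.fromSpec_primeIdealOf, IsAffineOpen.fromSpec_primeIdealOf] at h2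

include hc in
/-- A relative associated point of a base change maps to one. -/
theorem mem_relAss_of_baseChange {x' : X'} (h : x' ∈ MoreMor.relAss f' ((Scheme.Modules.pullback g').obj F)) :
    g' x' ∈ MoreMor.relAss f F := by
  obtain ⟨W, hW, hxW, -⟩ := exists_isAffineOpen_mem_and_subset (U := (⊤ : S.Opens)) (x := g (f' x')) trivial
  obtain ⟨W', hW', hxW', eW⟩ := exists_isAffineOpen_mem_and_subset (U := g ⁻¹ᵁ W) (x := f' x') hxW
  obtain ⟨V, hV, hxV, eV⟩ := exists_isAffineOpen_mem_and_subset (U := f ⁻¹ᵁ W) (x := g' x') (by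
    show f (g' x') ∈ W
    rw [← Scheme.Hom.comp_apply, hc.w, Scheme.Hom.comp_apply]
    exact hxW)
  exact (chart hc F hW hW' eW hV eV hxW').1 x' hxV rfl h

include hc in
/-- A relative associated point lifts to every fibre of a base change over its image. -/
theorem exists_relAss_over {x : X} (h : x ∈ MoreMor.relAss f F) {s' : S'} (hs : f x = g s') :
    ∃ x' ∈ MoreMor.relAss f' ((Scheme.Modules.pullback g').obj F), f' x' = s' ∧ g' x' = x := by
  obtain ⟨W, hW, hxW, -⟩ := exists_isAffineOpen_mem_and_subset (U := (⊤ : S.Opens)) (x := g s') trivial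
  obtain ⟨W', hW', hxW', eW⟩ := exists_isAffineOpen_mem_and_subset (U := g ⁻¹ᵁ W) (x := s') hxW
  obtain ⟨V, hV, hxV, eV⟩ := exists_isAffineOpen_mem_and_subset (U := f ⁻¹ᵁ W) (x := x) (by
    show f x ∈ W
    rw [hs]
    exact hxW)
  exact (chart hc F hW hW' eW hV eV hxW').2 x hxV hs h

end Groth.Agent.Lib.RelAss.BaseChange
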