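import Groth.Agent.Lib.RelAss.Descent
import Groth.Agent.H20.FlatFibreTrdeg

/-!
# Flat points specialising associated points of fibres
-/

universe u

open TensorProduct

attribute [local instance] Algebra.TensorProduct.rightAlgebra

set_option linter.style.haveILetI false

namespace Groth.Agent.Lib.RelAss.Specialize

variable {A B : Type u} [CommRing A] [CommRing B] [Algebra A B] (p q : Ideal A) [p.IsPrime] [q.IsPrime]
  (Q P : Ideal B) [Q.IsPrime] [P.IsPrime] [Q.LiesOver p] [P.LiesOver q]

/-- A valuation ring of the residue field of `p` together with compatible dominations. -/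
theorem exists_valuation (hQP : Q ≤ P) :
    ∃ (V : ValuationSubring p.ResidueField) (jA : A →+* V), (∀ a, (jA a : p.ResidueField) = algebraMap A _ a) ∧
      (IsLocalRing.maximalIdeal V).comap jA = q ∧
      ∃ (W : ValuationSubring Q.ResidueField) (jV : V →+* W) (jB : B →+* W), Function.Injective jV ∧
        jV.comp jA = jB.comp (algebraMap A B) ∧ RingHom.ker jB = Q ∧ (IsLocalRing.maximalIdeal W).comap jB = P ∧
        (IsLocalRing.maximalIdeal W).comap jV = IsLocalRing.maximalIdeal V := by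
  have hunit : ∀ b : P.primeCompl, IsUnit (algebraMap B Q.ResidueField b) := fun b =>
    isUnit_iff_ne_zero.2 fun h => b.2 (hQP (Ideal.algebraMap_residueField_eq_zero.1 h))
  obtain ⟨W, j, hj, hjloc⟩ := H20.FlatFibreTrdeg.exists_valuationSubring_dominating
    (IsLocalization.lift (M := P.primeCompl) (S := Localization.AtPrime P) hunit)
  let jB : B →+* W := j.comp (algebraMap B (Localization.AtPrime P))
  have hjB : ∀ b, (jB b : Q.ResidueField) = algebraMap B _ b := fun b => (hj _).trans (IsLocalization.lift_eq hunit b)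
  let ψ : p.ResidueField →+* Q.ResidueField := Ideal.ResidueField.map p Q (algebraMap A B) (Q.over_def p)
  have hψ : ∀ a, ψ (algebraMap A _ a) = algebraMap B _ (algebraMap A B a) := fun a =>
    Ideal.ResidueField.map_algebraMap _ _ _ _ _
  let V : ValuationSubring p.ResidueField := W.comap ψ
  let jV : V →+* W := ψ.restrict V.toSubring W.toSubring fun x hx => hx
  have hmem : ∀ a, algebraMap A p.ResidueField a ∈ V.toSubring := fun a => by
    show ψ (algebraMap A _ a) ∈ W
    rw [hψ, ← hjB]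
    exact (jB _).2
  let jA : A →+* V := (algebraMap A p.ResidueField).codRestrict V.toSubring hmem
  have hcomp : jV.comp jA = jB.comp (algebraMap A B) := RingHom.ext fun a => Subtype.ext ((hψ a).trans (hjB _).symm)
  have hWV : (IsLocalRing.maximalIdeal W).comap jV = IsLocalRing.maximalIdeal V := by
    ext v
    rw [Ideal.mem_comap, IsLocalRing.mem_maximalIdeal, IsLocalRing.mem_maximalIdeal]
    refine not_congr ⟨fun h => ?_, fun h => h.map jV⟩
    obtain ⟨w, hw⟩ := isUnit_iff_exists_inv.1 h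
    have hw' : ψ (v : p.ResidueField) * (w : Q.ResidueField) = 1 := congrArg Subtype.val hw
    have hv : (v : p.ResidueField) ≠ 0 := fun hz => by
      rw [hz, map_zero, zero_mul] at hw'
      exact zero_ne_one hw'
    have hinv : (v : p.ResidueField)⁻¹ ∈ V.toSubring := by
      show ψ _ ∈ W
      rw [map_inv₀, inv_eq_of_mul_eq_one_right hw']
      exact w.2
    exact isUnit_iff_exists_inv.2 ⟨⟨_, hinv⟩, Subtype.ext (mul_inv_cancel₀ hv)⟩
  have hP : (IsLocalRing.maximalIdeal W).comap jB = P := by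
    rw [← Ideal.comap_comap, show (IsLocalRing.maximalIdeal W).comap j = IsLocalRing.maximalIdeal (Localization.AtPrime P)
      from ((IsLocalRing.local_hom_TFAE j).out 0 4 rfl rfl).1 hjloc]
    exact IsLocalization.AtPrime.under_maximalIdeal _ P
  refine ⟨V, jA, fun a => rfl, ?_, W, jV, jB, fun x y h => Subtype.ext (ψ.injective (congrArg Subtype.val h)), hcomp, ?_,
    hP, hWV⟩
  · rw [← hWV, Ideal.comap_comap, hcomp, ← Ideal.comap_comap, hP]
    exact (P.over_def q).symm
  · ext b
    rw [RingHom.mem_ker, ← Subtype.coe_inj]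
    show (jB b : Q.ResidueField) = 0 ↔ _
    rw [hjB, Ideal.algebraMap_residueField_eq_zero]

variable [Algebra.FiniteType A B] {M : Type u} [AddCommGroup M] [Module B M] [Module A M] [IsScalarTower A B M]
  [Module.Finite B M] (hQP : Q ≤ P) (hass : Q ∈ associatedPrimes B (_root_.FlatCA.fiberMod p B M))
  (hflat : _root_.FlatCA.FlatAt A P M)

include hQP hass hflat in
/-- Both consequences of flatness at a specialisation of an associated point. -/
theorem assoc_and_indep :
    ((∀ P₂ : Ideal B, P₂.IsPrime → P₂.LiesOver q → Q ≤ P₂ → P₂ ≤ P → P ≤ P₂) →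
        P ∈ associatedPrimes B (_root_.FlatCA.fiberMod q B M)) ∧
      ∀ {ι : Type u} (t : ι → B), (∀ R : MvPolynomial ι A, (∃ i, R.coeff i ∉ q) → MvPolynomial.aeval t R ∉ P) →
        ∀ R : MvPolynomial ι A, (∃ i, R.coeff i ∉ p) → MvPolynomial.aeval t R ∉ Q := by
  obtain ⟨V, jA, hjA, hq, W, jV, jB, hinj, hcomp, hQ, hP, hWV⟩ := exists_valuation p q Q P hQP
  obtain ⟨x, hx⟩ := Descent.exists_witness p Q hass
  letI : Algebra A V := jA.toAlgebra
  let incl : V →ₐ[A] p.ResidueField := { V.toSubring.subtype with commutes' := hjA }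
  have hincl : Function.Injective incl := fun a b h => Subtype.ext h
  letI : Algebra A W := (jB.comp (algebraMap A B)).toAlgebra
  let aV : V →ₐ[A] W := { jV with commutes' := fun a => RingHom.congr_fun hcomp a }
  let aB : B →ₐ[A] W := { jB with commutes' := fun a => rfl }
  let χ : V ⊗[A] B →ₐ[A] W := Algebra.TensorProduct.lift aV aB fun _ _ => .all _ _
  let Q' : Ideal (V ⊗[A] B) := RingHom.ker χ.toRingHom
  let P' : Ideal (V ⊗[A] B) := (IsLocalRing.maximalIdeal W).comap χ.toRingHom
  haveI : Q'.IsPrime := RingHom.ker_isPrime _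
  haveI : P'.IsPrime := Ideal.IsPrime.comap _
  have hB : χ.toRingHom.comp (algebraMap B (V ⊗[A] B)) = jB := RingHom.ext fun b => by
    show χ (1 ⊗ₜ b) = jB b
    rw [Algebra.TensorProduct.lift_tmul, map_one, one_mul]
    rfl
  have hV : χ.toRingHom.comp (algebraMap V (V ⊗[A] B)) = jV := RingHom.ext fun v => by
    show χ (v ⊗ₜ 1) = jV v
    rw [Algebra.TensorProduct.lift_tmul, map_one, mul_one]
    rfl
  have hQ' : Q'.comap (algebraMap B (V ⊗[A] B)) = Q := by
    rw [RingHom.comap_ker, hB, hQ]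
  have hP' : P'.comap (algebraMap B (V ⊗[A] B)) = P := by
    rw [Ideal.comap_comap, hB, hP]
  haveI : P'.LiesOver (IsLocalRing.maximalIdeal V) := ⟨by
    rw [Ideal.under_def, Ideal.comap_comap, hV, hWV]⟩
  haveI : (IsLocalRing.maximalIdeal V).LiesOver q := ⟨hq.symm⟩
  have hle : Q' ≤ P' := Ideal.comap_mono bot_le
  have hpo : Algebra.IsPushout A B V (V ⊗[A] B) := TensorProduct.isPushout'
  haveI : Algebra.FiniteType V (V ⊗[A] B) := inferInstance
  haveI : IsScalarTower V (V ⊗[A] B) ((V ⊗[A] B) ⊗[B] M) := inferInstance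
  haveI : Module.Finite (V ⊗[A] B) ((V ⊗[A] B) ⊗[B] M) := Module.Finite.base_change B (V ⊗[A] B) M
  have hbc : IsBaseChange (V ⊗[A] B) (TensorProduct.mk B (V ⊗[A] B) M 1) := TensorProduct.isBaseChange B M (V ⊗[A] B)
  have e1 := @Descent.assoc_core A V B (V ⊗[A] B) _ _ _ _ _ _ _ _ _ _ _ _ _ M ((V ⊗[A] B) ⊗[B] M) _ _ _ _ _ _ _ _ _ _ hpo
  have e2 := @Descent.indep_core A V B (V ⊗[A] B) _ _ _ _ _ _ _ _ _ _ _ _ _ M ((V ⊗[A] B) ⊗[B] M) _ _ _ _ _ _ _ _ _ _ hpo
  exact ⟨fun hmin => e1 (TensorProduct.mk B (V ⊗[A] B) M 1) hbc p incl hincl Q P q hflat Q' P' hQ' hP' hle x hx hmin,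
    fun t ht R hR => e2 (TensorProduct.mk B (V ⊗[A] B) M 1) hbc p incl hincl Q P q hflat Q' P' hQ' hP' hle x hx t ht R hR⟩

end Groth.Agent.Lib.RelAss.Specialize
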