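import Groth.Agent.Lib.RelAss.Affine
import Groth.Agent.Lib.RelAss.Specialize
import Groth.Agent.H19.FlatLocus.Scheme
import Groth.Agent.H20.FlatSupportTrdeg
import Groth.Agent.H46.FibreTrdeg

/-!
# Flat specialisations of relative associated points of schemes
-/

universe u

open CategoryTheory AlgebraicGeometry
open Groth.Agent.Lib.Cyc

set_option linter.style.haveILetI false

namespace Groth.Agent.Lib.RelAss.Flatness

variable {X S : Scheme.{u}} (f : X ⟶ S) [LocallyOfFiniteType f] (F : X.Modules) [F.IsQuasicoherent]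
  [SheafOfModules.IsFiniteType (R := X.ringCatSheaf) F]

/-- A flat maximal point of the fibre of the closure of a relative associated point is one. -/
theorem mem_relAss_of_flat {y x : X} (hy : y ∈ MoreMor.relAss f F) (hyx : y ⤳ x)
    (hfl : FlatMod.IsFlatOverAt f F x) (hmax : ∀ z, f z = f x → y ⤳ z → z ⤳ x → z = x) :
    x ∈ MoreMor.relAss f F := by
  obtain ⟨W, hW, hxW, -⟩ := exists_isAffineOpen_mem_and_subset (U := (⊤ : S.Opens)) (x := f x) trivial
  obtain ⟨V, hV, hxV, e⟩ := exists_isAffineOpen_mem_and_subset (U := f ⁻¹ᵁ W) (x := x) hxW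
  let _ := (f.appLE W V e).hom.toAlgebra
  haveI : Algebra.FiniteType Γ(S, W) Γ(X, V) := f.finiteType_appLE hW hV e
  letI : Module Γ(S, W) Γ(F, V) := Module.compHom Γ(F, V) (f.appLE W V e).hom
  haveI : IsScalarTower Γ(S, W) Γ(X, V) Γ(F, V) := IsScalarTower.of_algebraMap_smul fun _ _ => rfl
  haveI : Module.Finite Γ(X, V) Γ(F, V) := CohBasics.Affine.finite_sections hV
  have hyV : y ∈ V := hyx.mem_open V.isOpen hxV
  haveI := Affine.liesOver_primeIdealOf f hW hV e hyV
  haveI := Affine.liesOver_primeIdealOf f hW hV e hxV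
  refine (Affine.mem_relAss_iff f hW hV e F hxV).2
    ((Specialize.assoc_and_indep _ (hW.primeIdealOf ⟨f x, e hxV⟩).asIdeal _ _
      ((Affine.specializes_iff hV hyV hxV).1 hyx) ((Affine.mem_relAss_iff f hW hV e F hyV).1 hy)
      ((H19.FlatLocus.Scheme.isFlatOverAt_iff f F hW hV e hxV).1 hfl)).1 fun P₂ hP₂ hP₂q hle hle' => ?_)
  haveI := hP₂
  obtain ⟨z, hz, hzx, hzP⟩ := Affine.exists_point f hW hV e (e hxV) P₂ hP₂q
  subst hzP
  obtain rfl := hmax z hzx ((Affine.specializes_iff hV hyV hz).2 hle) ((Affine.specializes_iff hV hz hxV).2 hle')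
  exact le_rfl

/-- Flatness at a specialisation of a relative associated point bounds the residual transcendence degree. -/
theorem trd_le_of_flat {y x : X} (hy : y ∈ MoreMor.relAss f F) (hyx : y ⤳ x)
    (hfl : FlatMod.IsFlatOverAt f F x) : H46.FibreTrdeg.trd f x ≤ H46.FibreTrdeg.trd f y := by
  classical
  obtain ⟨W, hW, hxW, -⟩ := exists_isAffineOpen_mem_and_subset (U := (⊤ : S.Opens)) (x := f x) trivial
  obtain ⟨V, hV, hxV, e⟩ := exists_isAffineOpen_mem_and_subset (U := f ⁻¹ᵁ W) (x := x) hxW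
  let _ := (f.appLE W V e).hom.toAlgebra
  haveI : Algebra.FiniteType Γ(S, W) Γ(X, V) := f.finiteType_appLE hW hV e
  letI : Module Γ(S, W) Γ(F, V) := Module.compHom Γ(F, V) (f.appLE W V e).hom
  haveI : IsScalarTower Γ(S, W) Γ(X, V) Γ(F, V) := IsScalarTower.of_algebraMap_smul fun _ _ => rfl
  haveI : Module.Finite Γ(X, V) Γ(F, V) := CohBasics.Affine.finite_sections hV
  have hyV : y ∈ V := hyx.mem_open V.isOpen hxV
  haveI := Affine.liesOver_primeIdealOf f hW hV e hyV
  haveI := Affine.liesOver_primeIdealOf f hW hV e hxV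
  letI : Algebra (S.residueField (f x)) (X.residueField x) := (f.residueFieldMap x).hom.toAlgebra
  obtain ⟨σ, hσsub, hσ⟩ : ∃ σ ⊆ Set.range (X.evaluation V x hxV),
      IsTranscendenceBasis (S.residueField (f x)) ((↑) : σ → X.residueField x) := by
    haveI : Algebra.IsAlgebraic (Algebra.adjoin (S.residueField (f x))
        (Set.range (X.evaluation V x hxV))) (X.residueField x) :=
      H20.FlatFibreTrdeg.isAlgebraic_of_frac fun z => by
        obtain ⟨a, g, hg, h⟩ := Lib.Flat55.ResTrdegCons.exists_eq_div hV hxV z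
        exact ⟨⟨_, Algebra.subset_adjoin ⟨a, rfl⟩⟩, ⟨_, Algebra.subset_adjoin ⟨g, rfl⟩⟩,
          fun h0 => hg (congrArg Subtype.val h0), h⟩
    exact exists_isTranscendenceBasis_subset _
  choose t htv using fun i : σ => hσsub i.2
  have hev : ∀ {Z : Scheme.{u}} {O : Z.Opens} (hO : IsAffineOpen O) {z : Z} (hz : z ∈ O) (a : Γ(Z, O)),
      Z.evaluation O z hz a ≠ 0 ↔ a ∉ (hO.primeIdealOf ⟨z, hz⟩).asIdeal := fun hO z hz a =>
    (Scheme.evaluation_ne_zero_iff_mem_basicOpen _ z hz a).trans (Affine.mem_basicOpen_iff hO hz a)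
  have hev' : ∀ (z : X) (hz : z ∈ V) (R : MvPolynomial σ Γ(S, W)),
      X.evaluation V z hz (MvPolynomial.aeval t R) =
        (letI := (f.residueFieldMap z).hom.toAlgebra
        MvPolynomial.aeval (fun i => X.evaluation V z hz (t i))
          (MvPolynomial.map (S.evaluation W (f z) (e hz)).hom R)) := fun z hz R => by
    letI := (f.residueFieldMap z).hom.toAlgebra
    rw [MvPolynomial.aeval_def, MvPolynomial.aeval_def, MvPolynomial.eval₂_map]
    refine (MvPolynomial.eval₂_comp_left (X.evaluation V z hz).hom _ t R).trans ?_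
    congr 1
    exact RingHom.ext fun a => Lib.Flat55.ResTrdegCons.evaluation_appLE f e hz a
  have ht : ∀ R : MvPolynomial σ Γ(S, W), (∃ m, R.coeff m ∉ (hW.primeIdealOf ⟨f x, e hxV⟩).asIdeal) →
      MvPolynomial.aeval t R ∉ (hV.primeIdealOf ⟨x, hxV⟩).asIdeal := by
    rintro R ⟨m, hm⟩ hmem
    refine (hev hW (e hxV) _).2 hm ?_
    have h0 : X.evaluation V x hxV (MvPolynomial.aeval t R) = 0 := by
      by_contra h
      exact (hev hV hxV _).1 h hmem
    rw [hev' x hxV, show (fun i => X.evaluation V x hxV (t i)) = ((↑) : σ → X.residueField x) from funext htv] at h0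
    have := congrArg (MvPolynomial.coeff m) (hσ.1.eq_zero_of_aeval_eq_zero _ h0)
    rwa [MvPolynomial.coeff_map, MvPolynomial.coeff_zero] at this
  have hQ := (Specialize.assoc_and_indep _ (hW.primeIdealOf ⟨f x, e hxV⟩).asIdeal _ _
      ((Affine.specializes_iff hV hyV hxV).1 hyx) ((Affine.mem_relAss_iff f hW hV e F hyV).1 hy)
      ((H19.FlatLocus.Scheme.isFlatOverAt_iff f F hW hV e hxV).1 hfl)).2 t ht
  letI : Algebra (S.residueField (f y)) (X.residueField y) := (f.residueFieldMap y).hom.toAlgebra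
  have hind : AlgebraicIndependent (S.residueField (f y)) (fun i => X.evaluation V y hyV (t i)) := by
    rw [algebraicIndependent_iff]
    intro R hR
    by_contra hne
    obtain ⟨m, hm⟩ := MvPolynomial.exists_coeff_ne_zero hne
    obtain ⟨P, g, hg, hP⟩ := Lib.Flat55.ResTrdegCons.exists_map_eq_C_mul
      (S.evaluation W (f y) (e hyV)).hom (Lib.Flat55.ResTrdegCons.exists_eq_div hW (e hyV)) R
    have hPm : S.evaluation W (f y) (e hyV) (P.coeff m) ≠ 0 := by
      have := congrArg (MvPolynomial.coeff m) hP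
      rw [MvPolynomial.coeff_map, MvPolynomial.coeff_C_mul] at this
      rw [this]
      exact mul_ne_zero hg hm
    refine (hev hV hyV _).2 (hQ P ⟨m, (hev hW (e hyV) _).1 hPm⟩) ?_
    rw [hev' y hyV, hP, map_mul, hR, mul_zero]
  have h1 : Residue.trdegAt f x = Cardinal.mk σ := hσ.cardinalMk_eq_trdeg.symm
  have h2 : Cardinal.mk σ ≤ Residue.trdegAt f y := hind.cardinalMk_le_trdeg
  rw [← h1, H46.FibreTrdeg.trdegAt_eq, H46.FibreTrdeg.trdegAt_eq] at h2
  exact_mod_cast h2

end Groth.Agent.Lib.RelAss.Flatness
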