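import Groth.Agent.Lib.RelAss.Generic
import Groth.Agent.Lib.FlatCA.FibreDescend

/-!
# Relative associated points near a point of the base
-/

universe u

open TensorProduct

attribute [local instance] Algebra.TensorProduct.rightAlgebra

set_option linter.style.haveILetI false

namespace Groth.Agent.Lib.RelAss.Base

open Groth.Agent.Lib.FlatCA

section Abstract

variable {A B A' B' : Type u} [CommRing A] [CommRing B] [CommRing A'] [CommRing B'] [IsDomain A'] [Algebra A B]
  [Algebra A A'] [Algebra B B'] [Algebra A' B'] [Algebra A B'] [IsScalarTower A B B'] [IsScalarTower A A' B']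
  [Algebra.FiniteType A' B'] [Algebra.FiniteType A B]
  {M M' : Type u} [AddCommGroup M] [Module B M] [AddCommGroup M'] [Module B' M'] [Module B M']
  [IsScalarTower B B' M'] [Module A' M'] [IsScalarTower A' B' M'] [Module.Finite B' M']
  {p : Ideal A} [p.IsPrime]

theorem liesOver_bot (hker : RingHom.ker (algebraMap A A') = p) : (⊥ : Ideal A').LiesOver p :=
  ⟨by rw [Ideal.under_def, ← RingHom.ker_eq_comap_bot, hker]⟩

theorem exists_quotient_point (hsurj : Function.Surjective (algebraMap A A'))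
    (hker : RingHom.ker (algebraMap A A') = p) (q : Ideal A) [q.IsPrime] (hpq : p ≤ q) :
    ∃ q' : Ideal A', q'.IsPrime ∧ q'.LiesOver q := by
  have hle : RingHom.ker (algebraMap A A') ≤ q := hker.le.trans hpq
  refine ⟨q.map (algebraMap A A'), Ideal.map_isPrime_of_surjective hsurj hle, ⟨?_⟩⟩
  rw [Ideal.under_def, Ideal.comap_map_of_surjective _ hsurj, ← RingHom.ker_eq_comap_bot]
  exact (sup_eq_left.2 hle).symm

theorem minimal_transfer (hpo : Algebra.IsPushout A B A' B') (l : M →ₗ[B] M') (hbc : IsBaseChange B' l)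
    (hsurj : Function.Surjective (algebraMap A A')) (hπ : Function.Surjective (algebraMap B B'))
    (hker : RingHom.ker (algebraMap A A') = p) (P : Ideal B) [P.IsPrime] [P.LiesOver p]
    (hass : P ∈ associatedPrimes B (_root_.FlatCA.fiberMod p B M)) :
    ∃ f ∉ p, ∀ (q : Ideal A) [q.IsPrime], p ≤ q → f ∉ q →
      (∃ P₁ : Ideal B, P₁.IsPrime ∧ P₁.LiesOver q ∧ P ≤ P₁) ∧
      ∀ (P₁ : Ideal B) [P₁.IsPrime] [P₁.LiesOver q], P ≤ P₁ →
        (∀ P₂ : Ideal B, P₂.IsPrime → P₂.LiesOver q → P ≤ P₂ → P₂ ≤ P₁ → P₁ ≤ P₂) →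
        P₁ ∈ associatedPrimes B (_root_.FlatCA.fiberMod q B M) := by
  haveI : (⊥ : Ideal A').LiesOver p := liesOver_bot hker
  obtain ⟨P', hP'p, hP'P, hP'l, hP'⟩ := FibreAss.exists_assoc_over hpo l hbc p (⊥ : Ideal A') P
    ((FibreAss.assoc_iff M p P).2 hass)
  haveI := hP'p
  haveI := hP'l
  obtain ⟨f, hf, H⟩ := Generic.exists_generic_minimal (A := A') (B := B') (M := M') P'
    ((FibreAss.assoc_iff M' _ P').1 hP')
  obtain ⟨f, rfl⟩ := hsurj f
  refine ⟨f, fun h => hf (RingHom.mem_ker.1 (hker.ge h)), fun q _ hpq hfq => ?_⟩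
  obtain ⟨q', hq'p, hq'q⟩ := exists_quotient_point hsurj hker q hpq
  haveI := hq'p
  haveI := hq'q
  obtain ⟨Hex, Hmin⟩ := H q' fun h => hfq ((Ideal.mem_of_liesOver q' q f).2 h)
  have hcomm : ∀ a : A, algebraMap B B' (algebraMap A B a) = algebraMap A' B' (algebraMap A A' a) :=
    fun a => by rw [← IsScalarTower.algebraMap_apply, IsScalarTower.algebraMap_apply A A' B']
  have hover : ∀ (R : Ideal B') [R.LiesOver q'], (R.comap (algebraMap B B')).LiesOver q := fun R hR => ⟨by
    ext a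
    rw [Ideal.mem_comap, Ideal.mem_comap, hcomm, ← Ideal.mem_of_liesOver R q' (algebraMap A A' a),
      ← Ideal.mem_of_liesOver q' q a]⟩
  have hPle : ∀ R : Ideal B', P' ≤ R ↔ P ≤ R.comap (algebraMap B B') := fun R => by
    rw [hP'P.over, Ideal.under_def]
    refine ⟨fun h => Ideal.comap_mono h, fun h x hx => ?_⟩
    obtain ⟨y, rfl⟩ := hπ x
    exact h hx
  constructor
  · obtain ⟨R, hR, hRq, hRP⟩ := Hex
    exact ⟨R.comap (algebraMap B B'), inferInstance, hover R, (hPle R).1 hRP⟩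
  · intro P₁ _ _ hP₁ hmin
    let R : Ideal B' := P₁.map (algebraMap B B')
    have hkerP : RingHom.ker (algebraMap B B') ≤ P₁ := fun x hx => hP₁ (by
      rw [hP'P.over, Ideal.under_def, Ideal.mem_comap, RingHom.mem_ker.1 hx]
      exact zero_mem _)
    haveI : R.IsPrime := Ideal.map_isPrime_of_surjective hπ hkerP
    have hR : R.comap (algebraMap B B') = P₁ := by
      rw [Ideal.comap_map_of_surjective _ hπ, ← RingHom.ker_eq_comap_bot]
      exact sup_eq_left.2 hkerP
    haveI : R.LiesOver q' := ⟨by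
      ext x
      obtain ⟨a, rfl⟩ := hsurj x
      rw [Ideal.mem_comap, ← hcomm, ← Ideal.mem_comap (f := algebraMap B B'), hR,
        ← Ideal.mem_of_liesOver P₁ q a, ← Ideal.mem_of_liesOver q' q a]⟩
    have hRass := Hmin R ((hPle R).2 (by rw [hR]; exact hP₁)) fun P₂ hP₂ hP₂q hle hle' => by
      intro x hx
      obtain ⟨y, rfl⟩ := hπ x
      haveI := hP₂
      haveI := hP₂q
      refine hmin _ inferInstance (hover P₂) ((hPle P₂).1 hle) ((Ideal.comap_mono hle').trans hR.le) ?_
      rwa [← hR]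
    obtain ⟨hl, h⟩ := FibreDescend.assoc_comap hpo l hbc q q' R ((FibreAss.assoc_iff M' q' R).2 hRass)
    haveI : (R.comap (algebraMap B B')).LiesOver q := hl
    have h' := (FibreAss.assoc_iff M q (R.comap (algebraMap B B'))).1 h
    rwa [hR] at h'

theorem avoid_transfer (hpo : Algebra.IsPushout A B A' B') (l : M →ₗ[B] M') (hbc : IsBaseChange B' l)
    (hsurj : Function.Surjective (algebraMap A A')) (hker : RingHom.ker (algebraMap A A') = p)
    {n : ℕ} (h : Fin n → B)
    (hh : ∀ P : Ideal B, P.LiesOver p → P ∈ associatedPrimes B (_root_.FlatCA.fiberMod p B M) → ∃ i, h i ∉ P) :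
    ∃ f ∉ p, ∀ (q : Ideal A) [q.IsPrime], p ≤ q → f ∉ q → ∀ P₁ : Ideal B, P₁.LiesOver q →
      P₁ ∈ associatedPrimes B (_root_.FlatCA.fiberMod q B M) → ∃ i, h i ∉ P₁ := by
  haveI : (⊥ : Ideal A').LiesOver p := liesOver_bot hker
  obtain ⟨f, hf, H⟩ := Generic.exists_generic_avoid (A := A') (B := B') (M := M')
    (fun i => algebraMap B B' (h i)) fun P' hl hass => by
      haveI := hl
      haveI := hass.1
      obtain ⟨hl', hass'⟩ := FibreDescend.assoc_comap hpo l hbc p (⊥ : Ideal A') P'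
        ((FibreAss.assoc_iff M' _ P').2 hass)
      haveI : (P'.comap (algebraMap B B')).LiesOver p := hl'
      obtain ⟨i, hi⟩ := hh _ hl' ((FibreAss.assoc_iff M p _).1 hass')
      exact ⟨i, hi⟩
  obtain ⟨f, rfl⟩ := hsurj f
  refine ⟨f, fun hfp => hf (RingHom.mem_ker.1 (hker.ge hfp)), fun q _ hpq hfq P₁ hl hass => ?_⟩
  obtain ⟨q', hq'p, hq'q⟩ := exists_quotient_point hsurj hker q hpq
  haveI := hq'p
  haveI := hq'q
  haveI := hl
  haveI := hass.1
  obtain ⟨R, hRp, hRP, hRl, hR⟩ := FibreAss.exists_assoc_over hpo l hbc q q' P₁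
    ((FibreAss.assoc_iff M q P₁).2 hass)
  haveI := hRp
  haveI := hRl
  obtain ⟨i, hi⟩ := H q' (fun h' => hfq ((Ideal.mem_of_liesOver q' q f).2 h')) R hRl ((FibreAss.assoc_iff M' q' R).1 hR)
  exact ⟨i, fun h' => hi ((Ideal.mem_of_liesOver R P₁ (h i)).1 h')⟩

end Abstract

variable {A B : Type u} [CommRing A] [CommRing B] [Algebra A B] [Algebra.FiniteType A B]
  {M : Type u} [AddCommGroup M] [Module B M] [Module.Finite B M]

/-- An associated point of a fibre spreads out to the generic points of its closure in nearby fibres. -/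
theorem exists_open_minimal (p : Ideal A) [p.IsPrime] (P : Ideal B) [P.IsPrime] [P.LiesOver p]
    (hass : P ∈ associatedPrimes B (_root_.FlatCA.fiberMod p B M)) :
    ∃ f ∉ p, ∀ (q : Ideal A) [q.IsPrime], p ≤ q → f ∉ q →
      (∃ P₁ : Ideal B, P₁.IsPrime ∧ P₁.LiesOver q ∧ P ≤ P₁) ∧
      ∀ (P₁ : Ideal B) [P₁.IsPrime] [P₁.LiesOver q], P ≤ P₁ →
        (∀ P₂ : Ideal B, P₂.IsPrime → P₂.LiesOver q → P ≤ P₂ → P₂ ≤ P₁ → P₁ ≤ P₂) →
        P₁ ∈ associatedPrimes B (_root_.FlatCA.fiberMod q B M) := by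
  let B' := (A ⧸ p) ⊗[A] B
  haveI : IsScalarTower (A ⧸ p) B' (B' ⊗[B] M) := inferInstance
  haveI : Module.Finite B' (B' ⊗[B] M) := Module.Finite.base_change B B' M
  have hpo : Algebra.IsPushout A B (A ⧸ p) B' := TensorProduct.isPushout'
  have e := @minimal_transfer A B (A ⧸ p) B' _ _ _ _ _ _ _ _ _ _ _ _ _ _ M (B' ⊗[B] M) _ _ _ _ _ _ _ _ _ p _ hpo
    (TensorProduct.mk B B' M 1)
  exact e (TensorProduct.isBaseChange B M B') Ideal.Quotient.mk_surjective
    (Algebra.TensorProduct.includeRight_surjective B Ideal.Quotient.mk_surjective) Ideal.mk_ker P hass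

/-- Associated points avoiding a closed set over a point avoid it over nearby points of its closure. -/
theorem exists_open_avoid (p : Ideal A) [p.IsPrime] {n : ℕ} (h : Fin n → B)
    (hh : ∀ P : Ideal B, P.LiesOver p → P ∈ associatedPrimes B (_root_.FlatCA.fiberMod p B M) → ∃ i, h i ∉ P) :
    ∃ f ∉ p, ∀ (q : Ideal A) [q.IsPrime], p ≤ q → f ∉ q → ∀ P₁ : Ideal B, P₁.LiesOver q →
      P₁ ∈ associatedPrimes B (_root_.FlatCA.fiberMod q B M) → ∃ i, h i ∉ P₁ := by
  let B' := (A ⧸ p) ⊗[A] B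
  haveI : IsScalarTower (A ⧸ p) B' (B' ⊗[B] M) := inferInstance
  haveI : Module.Finite B' (B' ⊗[B] M) := Module.Finite.base_change B B' M
  have hpo : Algebra.IsPushout A B (A ⧸ p) B' := TensorProduct.isPushout'
  have e := @avoid_transfer A B (A ⧸ p) B' _ _ _ _ _ _ _ _ _ _ _ _ _ _ M (B' ⊗[B] M) _ _ _ _ _ _ _ _ _ p _ hpo
    (TensorProduct.mk B B' M 1)
  exact e (TensorProduct.isBaseChange B M B') Ideal.Quotient.mk_surjective Ideal.mk_ker h hh

/-- A fibre has finitely many associated points. -/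
theorem finite_assoc (p : Ideal A) [p.IsPrime] :
    Finite {P : Ideal B // P.LiesOver p ∧ P ∈ associatedPrimes B (_root_.FlatCA.fiberMod p B M)} := by
  haveI : IsNoetherianRing (p.Fiber B) := Algebra.FiniteType.isNoetherianRing p.ResidueField _
  haveI : Module.Finite (p.Fiber B) (_root_.FlatCA.fiberMod p B M) := Module.Finite.base_change B (p.Fiber B) M
  haveI := (associatedPrimes.finite (p.Fiber B) (_root_.FlatCA.fiberMod p B M)).to_subtype
  refine Finite.of_injective (fun P => (⟨_root_.FlatCA.fiberIdeal p P.1, ?_⟩ :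
    associatedPrimes (p.Fiber B) (_root_.FlatCA.fiberMod p B M))) fun P Q hPQ => ?_
  · haveI := P.2.1
    haveI := P.2.2.1
    exact (FibreAss.assoc_iff M p P.1).2 P.2.2
  · haveI := P.2.1
    haveI := P.2.2.1
    haveI := Q.2.1
    haveI := Q.2.2.1
    apply Subtype.ext
    rw [← (WeakAss.fiberIdeal_prime p P.1).2, ← (WeakAss.fiberIdeal_prime p Q.1).2,
      show _root_.FlatCA.fiberIdeal p P.1 = _root_.FlatCA.fiberIdeal p Q.1 from congrArg Subtype.val hPQ]

end Groth.Agent.Lib.RelAss.Base
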