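import Groth.Agent.Lib.RelAss.Stalk
import Groth.Agent.Lib.CohBasics.Affine
import Groth.Agent.Lib.Flat55.FibrewiseScheme
import Groth.Prelude.Def_MoreMor

/-!
# The relative assassin on affine charts
-/

universe u

open CategoryTheory AlgebraicGeometry

set_option linter.style.haveILetI false

namespace Groth.Agent.Lib.RelAss.Affine

variable {X S : Scheme.{u}} (f : X ⟶ S) {W : S.Opens} (hW : IsAffineOpen W) {V : X.Opens} (hV : IsAffineOpen V)
  (e : V ≤ f ⁻¹ᵁ W)

/-- A point of an affine chart lies over the prime of its image. -/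
theorem liesOver_primeIdealOf {x : X} (hx : x ∈ V) :
    letI := (f.appLE W V e).hom.toAlgebra
    (hV.primeIdealOf ⟨x, hx⟩).asIdeal.LiesOver (hW.primeIdealOf ⟨f x, e hx⟩).asIdeal := by
  let _ := (f.appLE W V e).hom.toAlgebra
  exact ⟨(congrArg PrimeSpectrum.asIdeal (IsAffineOpen.comap_primeIdealOf_appLE W hW V hV e hx)).symm⟩

/-- On affine charts the relative assassin is given by the associated primes of the fibre modules. -/
theorem mem_relAss_iff [LocallyOfFiniteType f] (F : X.Modules) [F.IsQuasicoherent] {x : X} (hx : x ∈ V) :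
    letI := (f.appLE W V e).hom.toAlgebra
    x ∈ MoreMor.relAss f F ↔ (hV.primeIdealOf ⟨x, hx⟩).asIdeal ∈
      associatedPrimes Γ(X, V) (_root_.FlatCA.fiberMod (hW.primeIdealOf ⟨f x, e hx⟩).asIdeal Γ(X, V) Γ(F, V)) := by
  let _ := (f.appLE W V e).hom.toAlgebra
  haveI : Algebra.FiniteType Γ(S, W) Γ(X, V) := f.finiteType_appLE hW hV e
  let P := (hV.primeIdealOf ⟨x, hx⟩).asIdeal
  let p := (hW.primeIdealOf ⟨f x, e hx⟩).asIdeal
  haveI : P.LiesOver p := liesOver_primeIdealOf f hW hV e hx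
  letI := StalkLoc.Basic.moduleSections F hx
  letI := TopCat.Presheaf.algebra_section_stalk X.presheaf (⟨x, hx⟩ : V)
  letI := TopCat.Presheaf.algebra_section_stalk S.presheaf (⟨f x, e hx⟩ : W)
  haveI := StalkLoc.Basic.isScalarTower_sections F hx
  haveI := StalkLoc.Basic.isLocalizedModule_germ (M := F) hV hx
  haveI : IsLocalization.AtPrime (X.presheaf.stalk x) P := hV.isLocalization_stalk ⟨x, hx⟩
  haveI : IsLocalization.AtPrime (S.presheaf.stalk (f x)) p := hW.isLocalization_stalk ⟨f x, e hx⟩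
  letI : Algebra Γ(S, W) (X.presheaf.stalk x) :=
    ((algebraMap Γ(X, V) (X.presheaf.stalk x)).comp (algebraMap Γ(S, W) Γ(X, V))).toAlgebra
  haveI : IsScalarTower Γ(S, W) Γ(X, V) (X.presheaf.stalk x) := IsScalarTower.of_algebraMap_eq fun _ => rfl
  have hI : (IsLocalRing.maximalIdeal (S.presheaf.stalk (f x))).map (f.stalkMap x).hom =
      p.map (algebraMap Γ(S, W) (X.presheaf.stalk x)) := by
    rw [← IsLocalization.AtPrime.map_eq_maximalIdeal p (S.presheaf.stalk (f x)), Ideal.map_map]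
    exact congrArg (Ideal.map · p) (RingHom.ext fun s => Flat55.FibrewiseScheme.germ_appLE f e hx s)
  have key := Stalk.assoc_iff (C := X.presheaf.stalk x) p P (StalkLoc.Basic.germₗ F hx)
  rw [← hI] at key
  exact key

/-- A prime of the chart over the prime of a point is a point of the chart over it. -/
theorem exists_point {s : S} (hs : s ∈ W) (Q : Ideal Γ(X, V)) [Q.IsPrime]
    (hQ : letI := (f.appLE W V e).hom.toAlgebra; Q.LiesOver (hW.primeIdealOf ⟨s, hs⟩).asIdeal) :
    ∃ (x : X) (hx : x ∈ V), f x = s ∧ (hV.primeIdealOf ⟨x, hx⟩).asIdeal = Q := by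
  let _ := (f.appLE W V e).hom.toAlgebra
  let x := hV.fromSpec ⟨Q, inferInstance⟩
  have hx : x ∈ V := hV.range_fromSpec.le ⟨_, rfl⟩
  have hxQ : hV.primeIdealOf ⟨x, hx⟩ = ⟨Q, inferInstance⟩ :=
    hV.isOpenImmersion_fromSpec.base_open.injective (hV.fromSpec_primeIdealOf ⟨x, hx⟩)
  refine ⟨x, hx, ?_, congrArg PrimeSpectrum.asIdeal hxQ⟩
  have h1 := IsAffineOpen.comap_primeIdealOf_appLE W hW V hV e hx
  rw [hxQ] at h1
  have h2 : hW.primeIdealOf ⟨f x, e hx⟩ = hW.primeIdealOf ⟨s, hs⟩ :=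
    h1.symm.trans (PrimeSpectrum.ext hQ.over.symm)
  have h3 := congrArg hW.fromSpec h2
  rwa [IsAffineOpen.fromSpec_primeIdealOf, IsAffineOpen.fromSpec_primeIdealOf] at h3

omit f e in
/-- Specialisation inside an affine chart is inclusion of primes. -/
theorem specializes_iff {x y : X} (hx : x ∈ V) (hy : y ∈ V) :
    x ⤳ y ↔ (hV.primeIdealOf ⟨x, hx⟩).asIdeal ≤ (hV.primeIdealOf ⟨y, hy⟩).asIdeal := by
  rw [PrimeSpectrum.asIdeal_le_asIdeal, PrimeSpectrum.le_iff_specializes]
  refine Iff.trans ?_ hV.isOpenImmersion_fromSpec.base_open.isInducing.specializes_iff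
  erw [hV.fromSpec_primeIdealOf, hV.fromSpec_primeIdealOf]

omit f e in
/-- A point of an affine chart is in a basic open exactly when the function avoids its prime. -/
theorem mem_basicOpen_iff {x : X} (hx : x ∈ V) (g : Γ(X, V)) :
    x ∈ X.basicOpen g ↔ g ∉ (hV.primeIdealOf ⟨x, hx⟩).asIdeal := by
  have e2 : hV.primeIdealOf ⟨x, hx⟩ ∈ hV.fromSpec ⁻¹ᵁ X.basicOpen g ↔ x ∈ X.basicOpen g := by
    show hV.fromSpec _ ∈ X.basicOpen g ↔ _
    rw [hV.fromSpec_primeIdealOf]
  rw [← e2, hV.fromSpec_preimage_basicOpen]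
  exact PrimeSpectrum.mem_basicOpen _ _

end Groth.Agent.Lib.RelAss.Affine
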