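import Groth.Agent.Lib.RelAss.Generic
import Mathlib.RingTheory.TensorProduct.MvPolynomial

/-!
# Polynomials in independent functions act regularly on a fibre after extending the residue field
-/

universe u

open TensorProduct MvPolynomial

set_option linter.style.haveILetI false

namespace Groth.Agent.Lib.RelAss.PolyRegular

variable {A B : Type u} [CommRing A] [CommRing B] [Algebra A B] {ι : Type u}
  [Algebra (MvPolynomial ι A) B] [IsScalarTower A (MvPolynomial ι A) B]
  (K : Type u) [Field K] [Algebra A K]

local notation "P₀" => MvPolynomial ι A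
local notation "D" => MvPolynomial ι A ⊗[A] K

omit [Algebra A B] [Algebra (MvPolynomial ι A) B] [IsScalarTower A (MvPolynomial ι A) B] in
theorem isDomain : IsDomain D :=
  MulEquiv.isDomain (MvPolynomial ι K)
    ((Algebra.TensorProduct.comm A (MvPolynomial ι A) K).toMulEquiv.trans
      (MvPolynomial.algebraTensorAlgEquiv A K).toMulEquiv)

omit [Algebra A B] [Algebra (MvPolynomial ι A) B] [IsScalarTower A (MvPolynomial ι A) B] in
theorem coeff_eq_zero {R : P₀} (h : R ⊗ₜ[A] (1 : K) = 0) (e : ι →₀ ℕ) : algebraMap A K (R.coeff e) = 0 := by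
  have h' := congrArg ((Algebra.TensorProduct.comm A (MvPolynomial ι A) K).trans
    (((MvPolynomial.algebraTensorAlgEquiv A K).restrictScalars A))) h
  rw [map_zero] at h'
  have h'' : MvPolynomial.map (algebraMap A K) R = 0 := by
    rw [← h']
    simp [MvPolynomial.algebraTensorAlgEquiv_tmul]
  rw [← MvPolynomial.coeff_map, h'', MvPolynomial.coeff_zero]

omit K in
/-- Multiplication by a nonzero element of a domain is injective after passing to the residue field of its kernel. -/
theorem injective_mulLeft_residue {R E : Type u} [CommRing R] [CommRing E] [IsDomain E] [Algebra R E]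
    (q₁ : Ideal R) [q₁.IsPrime] (hq₁ : ∀ r, r ∈ q₁ ↔ algebraMap R E r = 0) (d : E) (hd : d ≠ 0) :
    Function.Injective (AlgebraTensorModule.lTensor q₁.ResidueField q₁.ResidueField (LinearMap.mulLeft R d)) := by
  let G := FractionRing E
  let L := q₁.ResidueField
  let ψ : L →ₐ[R] G := Ideal.ResidueField.liftₐ q₁ (Algebra.ofId R G)
    (fun r hr => by
      show algebraMap R G r = 0
      rw [IsScalarTower.algebraMap_apply R E G, (hq₁ r).1 hr, map_zero])
    (fun r hr => isUnit_iff_ne_zero.2 fun h => hr ((hq₁ r).2 (by
      rw [Algebra.ofId_apply, IsScalarTower.algebraMap_apply R E G, map_eq_zero_iff _ (IsFractionRing.injective E G)] at h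
      exact h)))
  let Λ : E ⊗[R] L →ₐ[R] G := Algebra.TensorProduct.lift (IsScalarTower.toAlgHom R E G) ψ fun _ _ => .all _ _
  refine (injective_iff_map_eq_zero _).2 fun y hy => ?_
  apply (TensorProduct.comm R L E).injective
  rw [map_zero]
  obtain ⟨s, hs, e, he⟩ := Generic.exists_smul_eq_tmul (B := R) q₁ (TensorProduct.comm R L E y)
  refine Generic.eq_zero_of_smul (B := R) q₁ hs ?_
  rw [he]
  have h2 : ∀ w : L ⊗[R] E, (LinearMap.mulLeft R d).rTensor L (TensorProduct.comm R L E w) =
      TensorProduct.comm R L E (AlgebraTensorModule.lTensor L L (LinearMap.mulLeft R d) w) := fun w => by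
    induction w using TensorProduct.induction_on with
    | zero => simp
    | add a b ha hb => simp only [map_add, ha, hb]
    | tmul a b => rfl
  have h3 : (d * e) ⊗ₜ[R] (1 : L) = 0 := by
    rw [show (d * e) ⊗ₜ[R] (1 : L) = (LinearMap.mulLeft R d).rTensor L (e ⊗ₜ[R] 1) from rfl, ← he, map_smul, h2, hy,
      map_zero, smul_zero]
  have h4 : algebraMap E G (d * e) * ψ 1 = 0 := by
    have := congrArg Λ h3
    rw [map_zero, Algebra.TensorProduct.lift_tmul] at this
    exact this
  rw [map_one, mul_one, map_eq_zero_iff _ (IsFractionRing.injective E G), mul_eq_zero, or_iff_right hd] at h4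
  rw [h4, TensorProduct.zero_tmul]

omit K in
/-- An element vanishing modulo an ideal killing the tensor factor vanishes. -/
theorem eq_zero_of_mkQ_tensor {R C X E : Type u} [CommRing R] [CommRing C] [AddCommGroup X] [Module C X] [Module R X]
    [AddCommGroup E] [Module R E] [SMulCommClass C R X] [SMul R C] [IsScalarTower R C X]
    (I : Ideal C) (hI : ∀ r ∈ I, ∀ (v : X) (e : E), (r • v) ⊗ₜ[R] e = 0) (w : X ⊗[R] E)
    (hw : ((I • (⊤ : Submodule C X)).mkQ.restrictScalars R).rTensor E w = 0) : w = 0 := by
  let ι' : ↥(I • (⊤ : Submodule C X)) →ₗ[R] X := (I • (⊤ : Submodule C X)).subtype.restrictScalars R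
  let mq : X →ₗ[R] X ⧸ (I • (⊤ : Submodule C X)) := (I • (⊤ : Submodule C X)).mkQ.restrictScalars R
  have hex := rTensor_exact E (show Function.Exact ι' mq from LinearMap.exact_subtype_mkQ (I • (⊤ : Submodule C X)))
    (show Function.Surjective mq from Submodule.mkQ_surjective (I • (⊤ : Submodule C X)))
  obtain ⟨v, rfl⟩ := (hex w).1 hw
  clear hw
  induction v using TensorProduct.induction_on with
  | zero => exact map_zero _
  | add a b ha hb => rw [map_add, ha, hb, add_zero]
  | tmul y e =>
    rw [LinearMap.rTensor_tmul]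
    show (y : X) ⊗ₜ[R] e = 0
    exact Submodule.smul_induction_on y.2 (fun r hr v _ => hI r hr v e) fun v v' hv hv' => by
      rw [TensorProduct.add_tmul, hv, hv', add_zero]

/-- A nonzero element of `K[T]` is regular on the fibre at a point where the functions are independent. -/
theorem exists_kill {M : Type u} [AddCommGroup M] [Module B M] [Module P₀ M] [IsScalarTower P₀ B M]
    (q : Ideal A) [q.IsPrime] (hK : ∀ a : A, algebraMap A K a = 0 ↔ a ∈ q) (P : Ideal B) [P.IsPrime]
    (ht : ∀ R : P₀, (∃ e, R.coeff e ∉ q) → algebraMap P₀ B R ∉ P) (d : D) (hd : d ≠ 0)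
    (z : M ⊗[P₀] D) (hz : (LinearMap.mulLeft P₀ d).lTensor M z = 0) : ∃ u ∉ P, u • z = 0 := by
  haveI := isDomain (A := A) (ι := ι) K
  let G := FractionRing D
  let φ : P₀ →+* G := (algebraMap D G).comp (algebraMap P₀ D)
  let q₁ : Ideal P₀ := RingHom.ker φ
  haveI : q₁.IsPrime := RingHom.ker_isPrime φ
  have hq₁ : ∀ R : P₀, R ∈ q₁ ↔ ∀ e, R.coeff e ∈ q := fun R => by
    have h1 : R ∈ q₁ ↔ R ⊗ₜ[A] (1 : K) = 0 := by
      rw [RingHom.mem_ker, RingHom.comp_apply, map_eq_zero_iff _ (IsFractionRing.injective D G)]
      rfl
    rw [h1]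
    refine ⟨fun h e => (hK _).1 (coeff_eq_zero K h e), fun h => ?_⟩
    rw [R.as_sum, TensorProduct.sum_tmul]
    refine Finset.sum_eq_zero fun e _ => ?_
    rw [show monomial e (R.coeff e) = R.coeff e • monomial e (1 : A) by rw [smul_monomial, smul_eq_mul, mul_one],
      TensorProduct.smul_tmul, Algebra.smul_def, (hK _).2 (h e), zero_mul, TensorProduct.tmul_zero]
  let L := q₁.ResidueField
  let C := Localization.AtPrime P
  let X := LocalizedModule P.primeCompl M
  let I : Ideal C := q.map (algebraMap A C)
  let N := X ⧸ (I • (⊤ : Submodule C X))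
  let ρ : L →+* C ⧸ I := Ideal.ResidueField.lift q₁ ((Ideal.Quotient.mk I).comp ((algebraMap B C).comp (algebraMap P₀ B)))
    (fun R hR => by
      rw [RingHom.mem_ker, RingHom.comp_apply, Ideal.Quotient.eq_zero_iff_mem]
      show ((algebraMap B C).comp (algebraMap P₀ B)) R ∈ I
      rw [R.as_sum, map_sum]
      refine Ideal.sum_mem _ fun e _ => ?_
      rw [show monomial e (R.coeff e) = algebraMap A P₀ (R.coeff e) * monomial e (1 : A) by
        rw [MvPolynomial.algebraMap_eq, MvPolynomial.C_mul_monomial, mul_one], map_mul]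
      show algebraMap B C (algebraMap P₀ B (algebraMap A P₀ _)) * _ ∈ I
      rw [← IsScalarTower.algebraMap_apply A P₀ B, ← IsScalarTower.algebraMap_apply A B C]
      exact Ideal.mul_mem_right _ _ (Ideal.mem_map_of_mem _ ((hq₁ R).1 hR e)))
    (fun R hR => IsUnit.map (Ideal.Quotient.mk I) (IsLocalization.map_units C
      (⟨algebraMap P₀ B R, ht R (by
        by_contra hcon
        push Not at hcon
        exact hR ((hq₁ R).2 hcon))⟩ : P.primeCompl)))
  letI : Module L N := Module.compHom N ρ
  haveI : IsScalarTower P₀ L N := IsScalarTower.of_algebraMap_smul fun R n => by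
    show ρ (algebraMap P₀ L R) • n = R • n
    rw [show ρ (algebraMap P₀ L R) = Ideal.Quotient.mk I (algebraMap B C (algebraMap P₀ B R)) from
      Ideal.ResidueField.lift_algebraMap ..]
    induction n using Submodule.Quotient.induction_on with
    | _ v =>
      show Submodule.Quotient.mk (algebraMap B C (algebraMap P₀ B R) • v) = (Submodule.Quotient.mk (R • v) : N)
      rw [algebraMap_smul, algebraMap_smul]
  let π : M →ₗ[B] N := ((I • (⊤ : Submodule C X)).mkQ.restrictScalars B).comp (LocalizedModule.mkLinearMap P.primeCompl M)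
  let μ : D →ₗ[P₀] D := LinearMap.mulLeft P₀ d
  let μL : L ⊗[P₀] D →ₗ[L] L ⊗[P₀] D := AlgebraTensorModule.lTensor L L μ
  have hμ : Function.Injective μL :=
    injective_mulLeft_residue q₁ (fun R => by
      rw [RingHom.mem_ker, RingHom.comp_apply, map_eq_zero_iff _ (IsFractionRing.injective D G)]) d hd
  have hN : Function.Injective (μ.lTensor N) := by
    let cc := AlgebraTensorModule.cancelBaseChange P₀ L L N D
    have hnat : ∀ w, μ.lTensor N (cc w) = cc (μL.lTensor N w) := fun w => by
      induction w using TensorProduct.induction_on with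
      | zero => simp
      | add a b ha hb => simp only [map_add, ha, hb]
      | tmul n w =>
        induction w using TensorProduct.induction_on with
        | zero => simp
        | add a b ha hb => simp only [map_add, TensorProduct.tmul_add, ha, hb]
        | tmul a b => simp [cc, μL]
    intro a b hab
    obtain ⟨a, rfl⟩ := cc.surjective a
    obtain ⟨b, rfl⟩ := cc.surjective b
    rw [hnat, hnat] at hab
    exact congrArg cc (Module.Flat.lTensor_preserves_injective_linearMap (M := N) μL hμ (cc.injective hab))
  have hπ : (π.restrictScalars P₀).rTensor D z = 0 := hN (by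
    rw [map_zero, ← LinearMap.comp_apply, LinearMap.lTensor_comp_rTensor, ← LinearMap.rTensor_comp_lTensor,
      LinearMap.comp_apply, hz, map_zero])
  have hzero : ((LocalizedModule.mkLinearMap P.primeCompl M).restrictScalars P₀).rTensor D z = 0 := by
    refine eq_zero_of_mkQ_tensor (E := D) I (fun r hr v e => ?_) _ ?_
    · induction hr using Submodule.span_induction generalizing v with
      | mem r hr =>
        obtain ⟨a, ha, rfl⟩ := hr
        rw [IsScalarTower.algebraMap_apply A B C, algebraMap_smul, IsScalarTower.algebraMap_apply A P₀ B, algebraMap_smul,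
          TensorProduct.smul_tmul]
        have hzero : algebraMap A P₀ a • e = 0 := by
          induction e using TensorProduct.induction_on with
          | zero => exact smul_zero _
          | add x y hx hy => rw [smul_add, hx, hy, add_zero]
          | tmul x c =>
            rw [TensorProduct.smul_tmul', algebraMap_smul, TensorProduct.smul_tmul, Algebra.smul_def, (hK a).2 ha,
              zero_mul, TensorProduct.tmul_zero]
        rw [hzero, TensorProduct.tmul_zero]
      | zero => rw [zero_smul, TensorProduct.zero_tmul]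
      | add r s _ _ hr hs => rw [add_smul, TensorProduct.add_tmul, hr, hs, add_zero]
      | smul c r _ hr => rw [smul_eq_mul, mul_comm, mul_smul, hr]
    · rw [← LinearMap.comp_apply, ← LinearMap.rTensor_comp]
      exact hπ
  obtain ⟨u, hu⟩ := (IsLocalizedModule.eq_zero_iff P.primeCompl
    (AlgebraTensorModule.rTensor P₀ D (LocalizedModule.mkLinearMap P.primeCompl M))).1 hzero
  exact ⟨u.1, u.2, hu⟩

end Groth.Agent.Lib.RelAss.PolyRegular
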