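import Groth.Agent.Lib.RelAss.Valuation
import Groth.Agent.Lib.RelAss.PolyRegular
import Groth.Agent.Lib.FlatCA.FibreDescend

/-!
# Relative associated points along flat specialisations
-/

universe u

open TensorProduct

attribute [local instance] Algebra.TensorProduct.rightAlgebra

set_option linter.style.haveILetI false

namespace Groth.Agent.Lib.RelAss.Descent

open Groth.Agent.Lib.FlatCA

/-- An associated point of a fibre is cut out by one element of the module. -/
theorem exists_witness {A B : Type u} [CommRing A] [CommRing B] [Algebra A B] {M : Type u} [AddCommGroup M]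
    [Module B M] [Module A M] [IsScalarTower A B M] (p : Ideal A) [p.IsPrime] (Q : Ideal B) [Q.LiesOver p]
    (hass : Q ∈ associatedPrimes B (_root_.FlatCA.fiberMod p B M)) :
    ∃ x : M, ∀ b : B, b ∈ Q ↔ ∃ n : ℕ, b ^ n • (x ⊗ₜ[A] (1 : p.ResidueField)) = 0 := by
  obtain ⟨-, z, hz⟩ := hass
  obtain ⟨s, hs, x, hx⟩ := Generic.exists_smul_eq_tmul (B := B) p (FiberMod.fiberModEquiv p B M z)
  refine ⟨x, fun b => ?_⟩
  rw [hz]
  refine exists_congr fun n => ?_
  rw [Submodule.mem_colon_singleton, Submodule.mem_bot, ← hx, smul_comm, ← map_smul]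
  exact ⟨fun h => by rw [h, map_zero, smul_zero],
    fun h => (FiberMod.fiberModEquiv p B M).map_eq_zero_iff.1 (Generic.eq_zero_of_smul _ hs h)⟩

section Val

variable {A V B B' : Type u} [CommRing A] [CommRing V] [IsDomain V] [ValuationRing V] [CommRing B] [CommRing B']
  [Algebra A V] [Algebra A B] [Algebra B B'] [Algebra V B'] [Algebra A B'] [IsScalarTower A B B'] [IsScalarTower A V B']
  {M M' : Type u} [AddCommGroup M] [Module B M] [Module A M] [IsScalarTower A B M]
  [AddCommGroup M'] [Module B' M'] [Module B M'] [IsScalarTower B B' M'] [Module V M'] [IsScalarTower V B' M']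

section Equiv

variable (hpo : Algebra.IsPushout A B V B') (f : M →ₗ[B] M') (hf : IsBaseChange B' f)

local notation "e" => Impurity.baseChangeEquiv hpo f hf

omit [IsDomain V] [ValuationRing V] in
theorem equiv_tmul (n : M) : e (f n) = (1 : V) ⊗ₜ[A] n := by
  haveI : Algebra.IsPushout A V B B' := hpo.symm
  show Algebra.IsPushout.cancelBaseChange A V B B' M (hf.equiv.symm (f n)) = _
  rw [show hf.equiv.symm (f n) = (1 : B') ⊗ₜ[B] n from hf.equiv.symm_apply_eq.2 (by simp [IsBaseChange.equiv_tmul]),
    Algebra.IsPushout.cancelBaseChange_tmul]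

include hpo hf in
omit [IsDomain V] [ValuationRing V] in
theorem induction {C : M' → Prop} (z : M') (h0 : C 0) (hadd : ∀ x y, C x → C y → C (x + y))
    (h : ∀ (v : V) (n : M), C (v • f n)) : C z := by
  obtain ⟨y, rfl⟩ := (e).symm.surjective z
  induction y using TensorProduct.induction_on with
  | zero => rw [map_zero]; exact h0
  | add a b ha hb => rw [map_add]; exact hadd _ _ ha hb
  | tmul v n =>
    convert h v n using 1
    rw [LinearEquiv.symm_apply_eq, map_smul, equiv_tmul, TensorProduct.smul_tmul', smul_eq_mul, mul_one]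

include hpo hf in
omit [IsDomain V] [ValuationRing V] in
theorem comm_equiv_smul (b : B) (z : M') :
    TensorProduct.comm A V M (e (algebraMap B B' b • z)) = b • TensorProduct.comm A V M (e z) := by
  induction z using induction hpo f hf with
  | h0 => simp
  | hadd x y hx hy => simp only [smul_add, map_add, hx, hy]
  | h v n =>
    rw [smul_comm, algebraMap_smul, ← map_smul, map_smul (e), map_smul (e), equiv_tmul, equiv_tmul,
      TensorProduct.smul_tmul', TensorProduct.smul_tmul', TensorProduct.comm_tmul, TensorProduct.comm_tmul,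
      TensorProduct.smul_tmul']

include hpo hf in
omit [ValuationRing V] in
/-- The elements dying on the generic fibre are the torsion ones. -/
theorem torsion_iff (p : Ideal A) [p.IsPrime] (incl : V →ₐ[A] p.ResidueField) (hincl : Function.Injective incl) (y : M) :
    (y ⊗ₜ[A] (1 : p.ResidueField) = 0 ↔ ∃ a : V, a ≠ 0 ∧ a • f y = 0) := by
  letI : Algebra V p.ResidueField := incl.toRingHom.toAlgebra
  haveI : IsScalarTower A V p.ResidueField := IsScalarTower.of_algebraMap_eq fun a => (incl.commutes a).symm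
  haveI : FaithfulSMul V p.ResidueField := (faithfulSMul_iff_algebraMap_injective _ _).2 hincl
  haveI : IsFractionRing V p.ResidueField := IsFractionRing.of_field V p.ResidueField fun z => by
    obtain ⟨a, b, -, rfl⟩ := IsFractionRing.div_surjective (A := A ⧸ p) z
    obtain ⟨a, rfl⟩ := Ideal.Quotient.mk_surjective a
    obtain ⟨b, rfl⟩ := Ideal.Quotient.mk_surjective b
    exact ⟨algebraMap A V a, algebraMap A V b, by
      rw [← Ideal.Quotient.algebraMap_eq, ← IsScalarTower.algebraMap_apply, ← IsScalarTower.algebraMap_apply,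
        ← IsScalarTower.algebraMap_apply, ← IsScalarTower.algebraMap_apply]⟩
  let Ω := AlgebraTensorModule.rTensor A M (Algebra.linearMap V p.ResidueField)
  have hΩ : Ω ((e) (f y)) = TensorProduct.comm A M p.ResidueField (y ⊗ₜ[A] 1) := by
    rw [equiv_tmul, TensorProduct.comm_tmul]
    show algebraMap V p.ResidueField 1 ⊗ₜ[A] y = _
    rw [map_one]
  constructor
  · intro h
    rw [h, map_zero] at hΩ
    obtain ⟨a, ha⟩ := (IsLocalizedModule.eq_zero_iff (nonZeroDivisors V) Ω).1 hΩ
    refine ⟨a.1, nonZeroDivisors.ne_zero a.2, (e).injective ?_⟩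
    rw [map_zero, map_smul]
    exact ha
  · rintro ⟨a, ha, hay⟩
    apply (TensorProduct.comm A M p.ResidueField).injective
    rw [map_zero, ← hΩ]
    refine (IsLocalizedModule.eq_zero_iff (nonZeroDivisors V) Ω).2
      ⟨⟨a, mem_nonZeroDivisors_of_ne_zero ha⟩, ?_⟩
    rw [Submonoid.smul_def, ← map_smul, hay, map_zero]

include hpo hf in
/-- Over a valuation ring base change preserves flatness at a point. -/
theorem flatAt (P : Ideal B) [P.IsPrime] (hflat : _root_.FlatCA.FlatAt A P M) (P' : Ideal B') [P'.IsPrime]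
    (hP : P'.comap (algebraMap B B') = P) : _root_.FlatCA.FlatAt V P' M' := by
  haveI : Module.Flat A (LocalizedModule P.primeCompl M) := hflat
  let l := LocalizedModule.mkLinearMap P.primeCompl M
  have htors : ∀ (a : V) (z : M'), a ≠ 0 → a • z = 0 → ∃ u ∉ P, algebraMap B B' u • z = 0 := fun a z ha hz => by
    let φ := (l.restrictScalars A).lTensor V
    have h1 : a • φ (e z) = 0 := by
      show a • AlgebraTensorModule.lTensor V V (l.restrictScalars A) (e z) = 0
      rw [← map_smul, ← map_smul, hz, map_zero, map_zero]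
    haveI : Module.Flat V (V ⊗[A] LocalizedModule P.primeCompl M) := inferInstance
    have h2 : φ (e z) = 0 := H20.ValLoc.torsionFree_of_flat (A := V) (M := V ⊗[A] LocalizedModule P.primeCompl M) a _ ha h1
    have h3 : AlgebraTensorModule.rTensor A V l (TensorProduct.comm A V M (e z)) = 0 := by
      have h' : ∀ w, AlgebraTensorModule.rTensor A V l (TensorProduct.comm A V M w) =
          TensorProduct.comm A V (LocalizedModule P.primeCompl M) (φ w) := fun w => by
        induction w using TensorProduct.induction_on with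
        | zero => simp
        | add a b ha hb => simp only [map_add, ha, hb]
        | tmul a b => rfl
      rw [h', h2, map_zero]
    obtain ⟨u, hu⟩ := (IsLocalizedModule.eq_zero_iff P.primeCompl (AlgebraTensorModule.rTensor A V l)).1 h3
    refine ⟨u.1, u.2, (e).injective ((TensorProduct.comm A V M).injective ?_)⟩
    rw [comm_equiv_smul hpo f hf, map_zero, map_zero]
    exact hu
  refine H20.ValLoc.flat_of_torsionFree fun a y ha hy => ?_
  let l' := LocalizedModule.mkLinearMap P'.primeCompl M'
  obtain ⟨⟨z, s⟩, hzs⟩ := IsLocalizedModule.surj P'.primeCompl l' y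
  have h1 : l' (a • z) = 0 := by
    rw [LinearMap.map_smul_of_tower, ← hzs, Submonoid.smul_def]
    show a • (s : B') • y = 0
    rw [smul_comm, hy, smul_zero]
  obtain ⟨t, ht⟩ := (IsLocalizedModule.eq_zero_iff P'.primeCompl l').1 h1
  obtain ⟨u, hu, hu'⟩ := htors a ((t : B') • z) ha (by rw [smul_comm]; exact ht)
  have h2 : l' z = 0 := (IsLocalizedModule.eq_zero_iff P'.primeCompl l').2
    ⟨⟨algebraMap B B' u * t, P'.primeCompl.mul_mem (fun h => hu (hP ▸ h)) t.2⟩, by
      rw [Submonoid.smul_def, mul_smul]; exact hu'⟩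
  refine ((Module.End.isUnit_iff _).1 (IsLocalizedModule.map_units l' s)).injective ?_
  rw [map_zero]
  exact hzs.trans h2

variable (p : Ideal A) [p.IsPrime] (incl : V →ₐ[A] p.ResidueField) (hincl : Function.Injective incl)

include hpo incl hincl in
omit [IsDomain V] [ValuationRing V] in
/-- Up to a scalar every function on the base change comes from the original ring. -/
theorem exists_descend (w : B') : ∃ s : A, s ∉ p ∧ ∃ b : B, algebraMap A B' s * w = algebraMap B B' b := by
  haveI := hpo.symm
  induction w using hpo.symm.out.inductionOn with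
  | zero => exact ⟨1, p.primeCompl.one_mem, 0, by rw [mul_zero, map_zero]⟩
  | tmul x =>
    exact ⟨1, p.primeCompl.one_mem, x, by rw [map_one, one_mul]; rfl⟩
  | smul v w ih =>
    obtain ⟨s, hs, b, hb⟩ := ih
    obtain ⟨a, c, hc, hv⟩ := IsFractionRing.div_surjective (A := A ⧸ p) (incl v)
    obtain ⟨a, rfl⟩ := Ideal.Quotient.mk_surjective a
    obtain ⟨c, rfl⟩ := Ideal.Quotient.mk_surjective c
    have hc' : c ∉ p := fun h => nonZeroDivisors.ne_zero hc (Ideal.Quotient.eq_zero_iff_mem.2 h)
    have hcv : algebraMap A V c * v = algebraMap A V a := hincl (by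
      rw [map_mul, incl.commutes, incl.commutes, ← hv, ← Ideal.Quotient.algebraMap_eq, ← IsScalarTower.algebraMap_apply,
        ← IsScalarTower.algebraMap_apply, mul_div_cancel₀ _ fun h => hc' (Ideal.algebraMap_residueField_eq_zero.1 h)])
    refine ⟨c * s, p.primeCompl.mul_mem hc' hs, algebraMap A B a * b, ?_⟩
    rw [map_mul (algebraMap B B'), ← hb, Algebra.smul_def, ← IsScalarTower.algebraMap_apply,
      IsScalarTower.algebraMap_apply A V B' a, ← hcv, map_mul, map_mul, ← IsScalarTower.algebraMap_apply]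
    ring
  | add w w' ih ih' =>
    obtain ⟨s, hs, b, hb⟩ := ih
    obtain ⟨s', hs', b', hb'⟩ := ih'
    refine ⟨s * s', p.primeCompl.mul_mem hs hs', algebraMap A B s' * b + algebraMap A B s * b', ?_⟩
    rw [map_add, map_mul, map_mul, map_mul, ← hb, ← hb', ← IsScalarTower.algebraMap_apply, ← IsScalarTower.algebraMap_apply]
    ring

include hpo hf incl hincl in
omit [ValuationRing V] in
/-- The witness of an associated point of the generic fibre, after base change. -/
theorem witness_baseChange (Q : Ideal B) [Q.LiesOver p] (Q' : Ideal B') [Q'.IsPrime]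
    (hQ : Q'.comap (algebraMap B B') = Q) (x : M)
    (hx : ∀ b : B, b ∈ Q ↔ ∃ n : ℕ, b ^ n • (x ⊗ₜ[A] (1 : p.ResidueField)) = 0) :
    (∀ w ∈ Q', ∃ (k : ℕ) (a : V), a ≠ 0 ∧ a • (w ^ k • f x) = 0) ∧ ∀ w : B', w • f x = 0 → w ∈ Q' := by
  haveI := hpo
  have hsc : ∀ s : A, algebraMap A B' s ∈ Q' ↔ s ∈ p := fun s => by
    rw [IsScalarTower.algebraMap_apply A B B', ← Ideal.mem_comap, hQ, ← Ideal.mem_of_liesOver Q p]
  have hne : ∀ s : A, s ∉ p → algebraMap A V s ≠ 0 := fun s hs h => hs (Ideal.algebraMap_residueField_eq_zero.1 (by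
    rw [← incl.commutes, h, map_zero]))
  refine ⟨fun w hw => ?_, fun w hw => ?_⟩
  · obtain ⟨s, hs, b, hb⟩ := exists_descend hpo p incl hincl w
    have hbQ : b ∈ Q := by
      rw [← hQ, Ideal.mem_comap, ← hb]
      exact Q'.mul_mem_left _ hw
    obtain ⟨n, hn⟩ := (hx b).1 hbQ
    rw [TensorProduct.smul_tmul'] at hn
    obtain ⟨a, ha, hay⟩ := (torsion_iff hpo f hf p incl hincl _).1 hn
    refine ⟨n, a * algebraMap A V s ^ n, mul_ne_zero ha (pow_ne_zero _ (hne s hs)), ?_⟩
    rw [mul_smul, ← map_pow, ← algebraMap_smul B' (algebraMap A V (s ^ n)), ← IsScalarTower.algebraMap_apply, map_pow,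
      smul_smul, ← mul_pow, hb, ← map_pow, algebraMap_smul, ← map_smul]
    exact hay
  · obtain ⟨s, hs, b, hb⟩ := exists_descend hpo p incl hincl w
    have h1 : f (b • x) = 0 := by
      rw [map_smul, ← algebraMap_smul B' b (f x), ← hb, mul_smul, hw, smul_zero]
    have h2 : b ∈ Q := (hx b).2 ⟨1, by
      rw [pow_one, TensorProduct.smul_tmul']
      exact (torsion_iff hpo f hf p incl hincl _).2 ⟨1, one_ne_zero, by rw [h1, smul_zero]⟩⟩
    rw [← hQ, Ideal.mem_comap, ← hb] at h2
    exact ((inferInstance : Q'.IsPrime).mem_or_mem h2).resolve_left fun h => hs ((hsc s).1 h)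

variable [Algebra.FiniteType V B'] [Module.Finite B' M'] (Q P : Ideal B) [Q.LiesOver p] [P.IsPrime]
  (q : Ideal A) [q.IsPrime] [P.LiesOver q] [(IsLocalRing.maximalIdeal V).LiesOver q] (hflat : _root_.FlatCA.FlatAt A P M)
  (Q' P' : Ideal B') [Q'.IsPrime] [P'.IsPrime] [P'.LiesOver (IsLocalRing.maximalIdeal V)]
  (hQ : Q'.comap (algebraMap B B') = Q) (hP : P'.comap (algebraMap B B') = P) (hle : Q' ≤ P') (x : M)
  (hx : ∀ b : B, b ∈ Q ↔ ∃ n : ℕ, b ^ n • (x ⊗ₜ[A] (1 : p.ResidueField)) = 0)

include hpo hf incl hincl hflat hQ hP hle hx in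
/-- The generic points of the closed fibre of the closure are associated. -/
theorem assoc_core (hmin : ∀ P₂ : Ideal B, P₂.IsPrime → P₂.LiesOver q → Q ≤ P₂ → P₂ ≤ P → P ≤ P₂) :
    P ∈ associatedPrimes B (_root_.FlatCA.fiberMod q B M) := by
  obtain ⟨R, hR, hRP⟩ := Ideal.exists_minimalPrimes_le
    (sup_le hle (Ideal.map_le_iff_le_comap.2 (Ideal.LiesOver.over (p := IsLocalRing.maximalIdeal V) (P := P')).le) :
      Q' ⊔ (IsLocalRing.maximalIdeal V).map (algebraMap V B') ≤ P')
  haveI := hR.1.1
  haveI hRm : R.LiesOver (IsLocalRing.maximalIdeal V) :=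
    ⟨le_antisymm (Ideal.map_le_iff_le_comap.1 (le_sup_right.trans hR.1.2))
      ((Ideal.comap_mono hRP).trans (Ideal.LiesOver.over (p := IsLocalRing.maximalIdeal V) (P := P')).ge)⟩
  have hRc : (R.comap (algebraMap B B')).LiesOver q := ⟨by
    rw [Ideal.under_def, Ideal.comap_comap, ← IsScalarTower.algebraMap_eq, IsScalarTower.algebraMap_eq A V B',
      ← Ideal.comap_comap]
    show q = (R.under V).comap (algebraMap A V)
    rw [← hRm.over, ← Ideal.under_def, ← Ideal.LiesOver.over (p := q) (P := IsLocalRing.maximalIdeal V)]⟩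
  have hRP' : R.comap (algebraMap B B') = P := by
    have h1 : R.comap (algebraMap B B') ≤ P := hP ▸ Ideal.comap_mono hRP
    exact le_antisymm h1 (hmin _ inferInstance hRc (hQ ▸ Ideal.comap_mono (le_sup_left.trans hR.1.2)) h1)
  obtain ⟨hQ1, hQ2⟩ := witness_baseChange hpo f hf p incl hincl Q Q' hQ x hx
  have hass := Valuation.assoc_special R Q' (le_sup_left.trans hR.1.2) (flatAt hpo f hf P hflat R hRP') (f x) hQ1 hQ2
    fun P₂ hP₂ hP₂m hQP₂ hP₂R => hR.2 ⟨hP₂, sup_le hQP₂ (Ideal.map_le_iff_le_comap.2 hP₂m.over.le)⟩ hP₂R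
  obtain ⟨hl, h⟩ := FibreDescend.assoc_comap hpo f hf q (IsLocalRing.maximalIdeal V) R
    ((FibreAss.assoc_iff M' _ R).2 hass)
  haveI := hl
  have h' := (FibreAss.assoc_iff M q (R.comap (algebraMap B B'))).1 h
  rwa [hRP'] at h'

include hpo hf incl hincl hflat hQ hP hle hx in
/-- Functions independent at a flat point are independent at the associated points generalising it. -/
theorem indep_core {ι : Type u} (t : ι → B)
    (ht : ∀ R : MvPolynomial ι A, (∃ i, R.coeff i ∉ q) → MvPolynomial.aeval t R ∉ P)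
    (R : MvPolynomial ι A) (hR : ∃ i, R.coeff i ∉ p) : MvPolynomial.aeval t R ∉ Q := by
  classical
  intro hRQ
  obtain ⟨i₁, hi₁⟩ := hR
  obtain ⟨a, ha, hdvd⟩ := H20.ValFP.exists_eq_smul (R.support.image fun i => algebraMap A V (R.coeff i))
  have hne : algebraMap A V (R.coeff i₁) ≠ 0 := fun h => hi₁ (Ideal.algebraMap_residueField_eq_zero.1 (by
    rw [← incl.commutes, h, map_zero]))
  have hi₁s : i₁ ∈ R.support := MvPolynomial.mem_support_iff.2 fun h => hne (by rw [h, map_zero])
  have ha0 : a ≠ 0 := fun h => hne (zero_dvd_iff.1 (h ▸ hdvd _ (Finset.mem_image_of_mem _ hi₁s)))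
  obtain ⟨i₀, hi₀, hai₀⟩ := Finset.mem_image.1 (ha.resolve_left ha0)
  choose c hc using fun i : R.support => hdvd _ (Finset.mem_image_of_mem _ i.2)
  have hc₀ : c ⟨i₀, hi₀⟩ = 1 := mul_left_cancel₀ ha0 (by rw [mul_one, ← hc]; exact hai₀)
  letI : Algebra (MvPolynomial ι A) B := (MvPolynomial.aeval t).toRingHom.toAlgebra
  haveI : IsScalarTower A (MvPolynomial ι A) B :=
    IsScalarTower.of_algebraMap_eq fun r => ((MvPolynomial.aeval t).commutes r).symm
  letI : Module (MvPolynomial ι A) M := Module.compHom M (algebraMap (MvPolynomial ι A) B)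
  haveI : IsScalarTower (MvPolynomial ι A) B M := IsScalarTower.of_algebraMap_smul fun _ _ => rfl
  haveI : IsScalarTower A (MvPolynomial ι A) M := IsScalarTower.of_algebraMap_smul fun r n => by
    rw [← algebraMap_smul B (algebraMap A (MvPolynomial ι A) r), ← IsScalarTower.algebraMap_apply, algebraMap_smul]
  let K := IsLocalRing.ResidueField V
  let T : (ι →₀ ℕ) → MvPolynomial ι A := fun i => MvPolynomial.monomial i 1
  let π : MvPolynomial ι A → B' := fun r => algebraMap B B' (algebraMap (MvPolynomial ι A) B r)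
  let g : B' := ∑ i : R.support, algebraMap V B' (c i) * π (T i.1)
  have hπR : algebraMap V B' a * g = π R := by
    show _ = π R
    conv_rhs => rw [R.as_sum, ← R.support.sum_coe_sort]
    simp only [π, g, map_sum, Finset.mul_sum]
    refine Finset.sum_congr rfl fun i _ => ?_
    rw [show MvPolynomial.monomial i.1 (R.coeff i.1) = algebraMap A (MvPolynomial ι A) (R.coeff i.1) * T i.1 by
      rw [MvPolynomial.algebraMap_eq, MvPolynomial.C_mul_monomial, mul_one], map_mul, map_mul,
      ← IsScalarTower.algebraMap_apply A (MvPolynomial ι A) B, ← IsScalarTower.algebraMap_apply A B B',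
      IsScalarTower.algebraMap_apply A V B', hc i, map_mul, mul_assoc]
  have hgQ : g ∈ Q' := by
    have h1 : algebraMap V B' a * g ∈ Q' := by
      rw [hπR]
      exact (show MvPolynomial.aeval t R ∈ Q'.comap (algebraMap B B') by rw [hQ]; exact hRQ)
    refine ((inferInstance : Q'.IsPrime).mem_or_mem h1).resolve_left fun h => ?_
    have h2 : algebraMap A B' (R.coeff i₀) ∈ Q' := by
      rw [IsScalarTower.algebraMap_apply A V B', hai₀]; exact h
    rw [IsScalarTower.algebraMap_apply A B B', ← Ideal.mem_comap, hQ, ← Ideal.mem_of_liesOver Q p] at h2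
    exact ha0 (hai₀.symm.trans (hincl (by
      rw [incl.commutes, map_zero, Ideal.algebraMap_residueField_eq_zero.2 h2])))
  obtain ⟨hQ1, hQ2⟩ := witness_baseChange hpo f hf p incl hincl Q Q' hQ x hx
  refine Valuation.not_mem_of_regular P' Q' hle (flatAt hpo f hf P hflat P' hP) (f x) hQ1 hQ2 g ?_ hgQ
  -- the reduction modulo the maximal ideal
  let ε : M ⊗[A] K ≃ₗ[MvPolynomial ι A] M ⊗[MvPolynomial ι A] (MvPolynomial ι A ⊗[A] K) :=
    (AlgebraTensorModule.cancelBaseChange A (MvPolynomial ι A) (MvPolynomial ι A) M K).symm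
  let θ : M' → M ⊗[MvPolynomial ι A] (MvPolynomial ι A ⊗[A] K) := fun z =>
    ε (TensorProduct.comm A K M ((IsScalarTower.toAlgHom A V K).toLinearMap.rTensor M (e z)))
  have hθadd : ∀ y z, θ (y + z) = θ y + θ z := fun y z => by simp [θ]
  have hθ0 : θ 0 = 0 := by simp [θ]
  have hθgen : ∀ (v : V) (n : M), θ (v • f n) = n ⊗ₜ ((1 : MvPolynomial ι A) ⊗ₜ[A] algebraMap V K v) := fun v n => by
    simp [θ, ε, equiv_tmul, TensorProduct.smul_tmul']
  have hθB : ∀ (b : B) (z : M'), θ (algebraMap B B' b • z) = b • θ z := fun b z => by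
    induction z using induction hpo f hf with
    | h0 => rw [smul_zero, hθ0, smul_zero]
    | hadd x y hx hy => rw [smul_add, hθadd, hθadd, hx, hy, smul_add]
    | h v n => rw [smul_comm, algebraMap_smul, ← map_smul, hθgen, hθgen, TensorProduct.smul_tmul']
  let d : MvPolynomial ι A ⊗[A] K := ∑ i : R.support, T i.1 ⊗ₜ[A] algebraMap V K (c i)
  have hθg : ∀ z : M', θ (g • z) = (LinearMap.mulLeft (MvPolynomial ι A) d).lTensor M (θ z) := fun z => by
    induction z using induction hpo f hf with
    | h0 => rw [smul_zero, hθ0, map_zero]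
    | hadd x y hx hy => rw [smul_add, hθadd, hθadd, hx, hy, map_add]
    | h v n =>
      have hsum : ∀ F : R.support → M', θ (∑ i, F i) = ∑ i, θ (F i) := fun F =>
        map_sum (AddMonoidHom.mk' θ hθadd) F _
      simp only [g, Finset.sum_smul, hsum, d, hθgen, LinearMap.lTensor_tmul, LinearMap.mulLeft_apply, Finset.sum_mul,
        TensorProduct.tmul_sum]
      refine Finset.sum_congr rfl fun i _ => ?_
      rw [mul_smul, algebraMap_smul, smul_comm (π (T i.1)), algebraMap_smul, ← map_smul, smul_smul, hθgen,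
        Algebra.TensorProduct.tmul_mul_tmul, ← map_mul, mul_one]
      rw [algebraMap_smul, TensorProduct.smul_tmul, TensorProduct.smul_tmul', smul_eq_mul, mul_one]
  have hθker : ∀ z : M', θ z = 0 ↔ z ∈ IsLocalRing.maximalIdeal V • (⊤ : Submodule V M') := fun z => by
    let r : V →ₗ[A] K := (IsScalarTower.toAlgHom A V K).toLinearMap
    refine ⟨fun hz => ?_, fun hz => ?_⟩
    · have hz' : r.rTensor M (e z) = 0 := (TensorProduct.comm A K M).injective (ε.injective (by
        rw [map_zero, map_zero]; exact hz))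
      have hex : Function.Exact ((Submodule.subtype (IsLocalRing.maximalIdeal V)).restrictScalars A) r :=
        fun v => by
          rw [show r v = IsLocalRing.residue V v from rfl, IsLocalRing.residue_eq_zero_iff]
          exact ⟨fun h => ⟨⟨v, h⟩, rfl⟩, fun ⟨w, hw⟩ => hw ▸ w.2⟩
      obtain ⟨w, hw⟩ := ((rTensor_exact M hex (show Function.Surjective r from Ideal.Quotient.mk_surjective)) (e z)).1 hz'
      rw [show z = (e).symm (e z) from ((e).symm_apply_apply z).symm, ← hw]
      clear hw
      induction w using TensorProduct.induction_on with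
      | zero => rw [map_zero, map_zero]; exact zero_mem _
      | add a b ha hb => rw [map_add, map_add]; exact add_mem ha hb
      | tmul v n =>
        rw [LinearMap.rTensor_tmul]
        show (e).symm ((v : V) ⊗ₜ[A] n) ∈ _
        have : (e).symm ((v : V) ⊗ₜ[A] n) = (v : V) • f n := by
          rw [LinearEquiv.symm_apply_eq, map_smul, equiv_tmul, TensorProduct.smul_tmul', smul_eq_mul, mul_one]
        rw [this]
        exact Submodule.smul_mem_smul v.2 Submodule.mem_top
    · refine Submodule.smul_induction_on hz (fun v hv w hw => ?_) fun a b ha hb => by rw [hθadd, ha, hb, add_zero]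
      clear hw
      induction w using induction hpo f hf with
      | h0 => rw [smul_zero, hθ0]
      | hadd x y hx hy => rw [smul_add, hθadd, hx, hy, add_zero]
      | h v' n =>
        rw [smul_smul, hθgen, map_mul, show algebraMap V K v = 0 from (IsLocalRing.residue_eq_zero_iff v).2 hv, zero_mul,
          TensorProduct.tmul_zero, TensorProduct.tmul_zero]
  have hd : d ≠ 0 := fun h => by
    have h' := congrArg ((Algebra.TensorProduct.comm A (MvPolynomial ι A) K).trans
      ((MvPolynomial.algebraTensorAlgEquiv A K).restrictScalars A)) h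
    rw [map_zero, map_sum] at h'
    have h'' := congrArg (MvPolynomial.coeff i₀) h'
    simp only [MvPolynomial.coeff_sum, MvPolynomial.coeff_zero] at h''
    rw [Finset.sum_eq_single (⟨i₀, hi₀⟩ : R.support)] at h''
    · simp [T, MvPolynomial.algebraTensorAlgEquiv_tmul, hc₀] at h''
    · intro i _ hi
      simp [T, MvPolynomial.algebraTensorAlgEquiv_tmul, MvPolynomial.coeff_monomial]
      exact fun hii => absurd (Subtype.ext hii) hi
    · simp
  intro z hz
  obtain ⟨u, hu, huz⟩ := PolyRegular.exists_kill K q (fun r => by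
      rw [IsScalarTower.algebraMap_apply A V K, IsLocalRing.ResidueField.algebraMap_eq, IsLocalRing.residue_eq_zero_iff]
      exact (Ideal.mem_of_liesOver (IsLocalRing.maximalIdeal V) q r).symm)
    P ht d hd (θ z) ((hθg z).symm.trans ((hθker _).2 hz))
  exact ⟨algebraMap B B' u, fun h => hu (hP ▸ h), (hθker _).1 (by rw [hθB, huz])⟩

end Equiv

end Val

end Groth.Agent.Lib.RelAss.Descent
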