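import Groth.Agent.Lib.RG.Induct
import Groth.Agent.Lib.RG.OpenFlat
import Groth.Agent.Lib.FlatCA.WeakAssBC

/-!
# Finitely presented models near a flat point

Near a flat point, a finite module over an algebra of finite type agrees with a flat finitely presented
module over a finitely presented algebra.  This transfers the description of the weakly associated
points of `N ⊗ M` to flat points of modules of finite type.
-/

set_option autoImplicit false
set_option linter.style.haveILetI false

universe u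

open scoped TensorProduct

namespace Groth.Agent.Lib.RelAss.FlatAtPoint

open RG.StepModel (BijAt)

/-- The prime is minimal over the annihilator of the element. -/
def MinAt {S X : Type u} [CommRing S] [AddCommGroup X] [Module S X] (q : Ideal S) (z : X) : Prop :=
  (∀ w ∉ q, w • z ≠ 0) ∧ ∀ c ∈ q, ∃ n : ℕ, ∃ w ∉ q, (w * c ^ n) • z = 0

section MinAt

variable {S X : Type u} [CommRing S] [AddCommGroup X] [Module S X] {q : Ideal S} [q.IsPrime] {z : X}

theorem minAt_iff : MinAt q z ↔ q ∈ (Submodule.span S {z}).annihilator.minimalPrimes := by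
  refine ⟨fun h => ⟨⟨inferInstance, fun c hc => ?_⟩, fun P hP hPq c hc => ?_⟩,
    fun h => FlatCA.WeakAssBC.nil_of_minimal q z h⟩
  · by_contra hcq
    exact h.1 c hcq ((Submodule.mem_annihilator_span_singleton _ _).1 hc)
  · obtain ⟨n, w, hw, hwz⟩ := h.2 c hc
    rcases hP.1.mem_or_mem (hP.2 ((Submodule.mem_annihilator_span_singleton _ _).2 hwz)) with h' | h'
    · exact absurd (hPq h') hw
    · exact hP.1.mem_of_pow_mem n h'

theorem mem_weakAss_iff_exists : q ∈ _root_.FlatCA.weakAss S X ↔ ∃ z : X, MinAt q z :=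
  ⟨fun ⟨z, hz⟩ => ⟨z, minAt_iff.2 hz⟩, fun ⟨z, hz⟩ => ⟨z, minAt_iff.1 hz⟩⟩

/-- Transfer along a map which is bijective at the prime. -/
theorem exists_minAt_iff {Y : Type u} [AddCommGroup Y] [Module S Y] {f : X →ₗ[S] Y} (hf : BijAt q f) :
    (∃ z : X, MinAt q z) ↔ ∃ y : Y, MinAt q y := by
  have hq : ∀ {a b : S}, a ∉ q → b ∉ q → a * b ∉ q := fun ha hb h =>
    (Ideal.IsPrime.mem_or_mem inferInstance h).elim ha hb
  constructor
  · rintro ⟨z, hz⟩
    refine ⟨f z, fun w hw h => ?_, fun c hc => ?_⟩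
    · obtain ⟨d, hd, hdz⟩ := hf.2 (w • z) (by rw [map_smul, h])
      exact hz.1 _ (hq hd hw) (by rw [mul_smul, hdz])
    · obtain ⟨n, w, hw, hwz⟩ := hz.2 c hc
      exact ⟨n, w, hw, by rw [← map_smul, hwz, map_zero]⟩
  · rintro ⟨y, hy⟩
    obtain ⟨d, hd, z, hz⟩ := hf.1 y
    refine ⟨z, fun w hw h => ?_, fun c hc => ?_⟩
    · exact hy.1 _ (hq hw hd) (by rw [mul_smul, ← hz, ← map_smul, h, map_zero])
    · obtain ⟨n, w, hw, hwy⟩ := hy.2 c hc
      obtain ⟨e, he, hez⟩ := hf.2 ((w * c ^ n) • z) (by rw [map_smul, hz, smul_comm, hwy, smul_zero])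
      exact ⟨n, e * w, hq he hw, by rw [mul_assoc, mul_smul, hez]⟩

/-- Change of rings along a map which is a localization near the prime. -/
theorem minAt_iff_of_ringHom {S' : Type u} [CommRing S'] [Algebra S S'] [Module S' X] [IsScalarTower S S' X]
    (q' : Ideal S') [q'.IsPrime] (hq : q'.comap (algebraMap S S') = q)
    (hfrac : ∀ c : S', ∃ u : S, u ∉ q ∧ ∃ a : S, algebraMap S S' u * c = algebraMap S S' a) :
    MinAt q z ↔ MinAt q' z := by
  have hmem : ∀ a, algebraMap S S' a ∈ q' ↔ a ∈ q := fun a => by rw [← hq]; rfl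
  constructor
  · intro h
    refine ⟨fun w hw hwz => ?_, fun c hc => ?_⟩
    · obtain ⟨u, hu, a, ha⟩ := hfrac w
      refine h.1 a (fun haq => ?_) ?_
      · exact ((Ideal.IsPrime.mem_or_mem inferInstance (ha ▸ (hmem a).2 haq)).elim (fun h => hu ((hmem u).1 h)) hw)
      · rw [← algebraMap_smul S' a z, ← ha, mul_smul, hwz, smul_zero]
    · obtain ⟨u, hu, a, ha⟩ := hfrac c
      obtain ⟨n, w, hw, hwz⟩ := h.2 a ((hmem a).1 (ha ▸ Ideal.mul_mem_left _ _ hc))
      refine ⟨n, algebraMap S S' (w * u ^ n), fun hmem' => ?_, ?_⟩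
      · rcases Ideal.IsPrime.mem_or_mem inferInstance ((hmem _).1 hmem') with h' | h'
        · exact hw h'
        · exact hu (Ideal.IsPrime.mem_of_pow_mem inferInstance n h')
      · rw [← algebraMap_smul S' (w * a ^ n) z, map_mul, map_pow, ← ha, mul_pow] at hwz
        rw [map_mul, map_pow, mul_assoc]
        exact hwz
  · intro h
    refine ⟨fun w hw hwz => h.1 _ (fun h' => hw ((hmem w).1 h')) (by rw [algebraMap_smul, hwz]), fun c hc => ?_⟩
    obtain ⟨n, w, hw, hwz⟩ := h.2 _ ((hmem c).2 hc)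
    obtain ⟨u, hu, a, ha⟩ := hfrac w
    refine ⟨n, a, fun haq => ?_, ?_⟩
    · exact ((Ideal.IsPrime.mem_or_mem inferInstance (ha ▸ (hmem a).2 haq)).elim (fun h => hu ((hmem u).1 h)) hw)
    · rw [← algebraMap_smul S' (a * c ^ n) z, map_mul, map_pow, ← ha, mul_assoc, mul_smul, hwz, smul_zero]

end MinAt

section Tensor

variable {R P M N : Type u} [CommRing R] [CommRing P] [Algebra R P] [AddCommGroup M] [Module P M] [Module R M]
  [IsScalarTower R P M] [AddCommGroup N] [Module P N] [Module R N] [IsScalarTower R P N]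

theorem isLocalizedModule_comp (q : Ideal P) [q.IsPrime] {θ : M →ₗ[P] N} (hθ : BijAt q θ) :
    IsLocalizedModule q.primeCompl ((LocalizedModule.mkLinearMap q.primeCompl N).comp θ) := by
  let e := (LinearEquiv.ofBijective (LocalizedModule.map q.primeCompl θ)
    ⟨RG.Induct.injective_map_of_killed q θ hθ.2, RG.Induct.surjective_map_of_killed q θ hθ.1⟩).restrictScalars P
  have h : (LocalizedModule.mkLinearMap q.primeCompl N).comp θ =
      (e : LocalizedModule q.primeCompl M →ₗ[P] LocalizedModule q.primeCompl N).comp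
        (LocalizedModule.mkLinearMap q.primeCompl M) :=
    LinearMap.ext fun m => (LocalizedModule.map_mk _ θ m 1).symm
  rw [h]
  exact IsLocalizedModule.of_linearEquiv q.primeCompl (LocalizedModule.mkLinearMap q.primeCompl M) e

/-- Tensoring preserves bijectivity at a prime. -/
theorem bijAt_rTensor (q : Ideal P) [q.IsPrime] {θ : M →ₗ[P] N} (hθ : BijAt q θ) (Q : Type u) [AddCommGroup Q]
    [Module R Q] : BijAt q (TensorProduct.AlgebraTensorModule.rTensor R Q θ) := by
  haveI := isLocalizedModule_comp q hθ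
  haveI := IsLocalizedModule.rTensor q.primeCompl (R := R) (A := P) (N := Q)
    ((LocalizedModule.mkLinearMap q.primeCompl N).comp θ)
  refine ⟨fun y => ?_, fun v hv => ?_⟩
  · induction y using TensorProduct.induction_on with
    | zero => exact ⟨1, q.primeCompl.one_mem, by rw [smul_zero]; exact zero_mem _⟩
    | tmul n x =>
      obtain ⟨d, hd, m, hm⟩ := hθ.1 n
      exact ⟨d, hd, m ⊗ₜ x, by rw [TensorProduct.AlgebraTensorModule.rTensor_tmul, hm, TensorProduct.smul_tmul']⟩
    | add a b ha hb =>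
      obtain ⟨d, hd, ha⟩ := ha
      obtain ⟨e, he, hb⟩ := hb
      refine ⟨d * e, q.primeCompl.mul_mem hd he, ?_⟩
      rw [smul_add]
      refine add_mem ?_ ?_
      · rw [mul_comm, mul_smul]; exact Submodule.smul_mem _ _ ha
      · rw [mul_smul]; exact Submodule.smul_mem _ _ hb
  · have h0 : TensorProduct.AlgebraTensorModule.rTensor R Q
        ((LocalizedModule.mkLinearMap q.primeCompl N).comp θ) v = 0 := by
      rw [TensorProduct.AlgebraTensorModule.rTensor_comp, LinearMap.comp_apply, hv, map_zero]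
    obtain ⟨⟨d, hd⟩, hdv⟩ := (IsLocalizedModule.eq_zero_iff q.primeCompl _).1 h0
    exact ⟨d, hd, hdv⟩

end Tensor

section FP

variable {R S : Type u} [CommRing R] [CommRing S] [Algebra R S] [Algebra.FinitePresentation R S]
  (N : Type u) [AddCommGroup N] [Module S N] [Module R N] [IsScalarTower R S N] [Module.FinitePresentation S N]
  [Module.Flat R N] (p : Ideal R) [p.IsPrime] (q : Ideal S) [q.IsPrime] [q.LiesOver p]

/-- The finitely presented case. -/
theorem exists_minAt_iff_fp (W : Type u) [AddCommGroup W] [Module R W] :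
    (∃ z : N ⊗[R] W, MinAt q z) ↔
      (p ∈ _root_.FlatCA.weakAss R W ∧
        _root_.FlatCA.fiberIdeal p q ∈ associatedPrimes (p.Fiber S) (_root_.FlatCA.fiberMod p S N)) := by
  constructor
  · rintro ⟨z, hz⟩
    exact ⟨FlatCA.WeakAssBC.mem_weakAss_of_minimal W p q z (minAt_iff.1 hz),
      FlatCA.WeakAss.mem_fibre_of_minimal W p q z (minAt_iff.1 hz)⟩
  · rintro ⟨⟨m, hm⟩, hass⟩
    obtain ⟨z, hz⟩ := FlatCA.WeakAssBC.exists_minimal_of_mem_fibre W p q m hm hass
    exact ⟨z, minAt_iff.2 hz⟩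

end FP

section Main

variable {R S : Type u} [CommRing R] [CommRing S] [Algebra R S] [Algebra.FiniteType R S]
  (N : Type u) [AddCommGroup N] [Module S N] [Module R N] [IsScalarTower R S N] [Module.Finite S N]
  (p : Ideal R) [p.IsPrime] (q : Ideal S) [q.IsPrime] [q.LiesOver p]

/-- The associated points of a fibre are the primes minimal over an annihilator in the fibre module. -/
theorem assoc_iff_minAt :
    _root_.FlatCA.fiberIdeal p q ∈ associatedPrimes (p.Fiber S) (_root_.FlatCA.fiberMod p S N) ↔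
      ∃ z : N ⊗[R] p.ResidueField, MinAt q z := by
  constructor
  · intro h
    obtain ⟨-, x, hx⟩ := (FlatCA.FibreAss.assoc_iff N p q).1 h
    refine ⟨FlatCA.FiberMod.fiberModEquiv p S N x, fun w hw h0 => hw ?_, fun c hc => ?_⟩
    · rw [← map_smul, LinearEquiv.map_eq_zero_iff] at h0
      rw [hx]
      exact ⟨1, by rw [pow_one, Submodule.mem_colon_singleton, Submodule.mem_bot]; exact h0⟩
    · rw [hx] at hc
      obtain ⟨n, hn⟩ := hc
      rw [Submodule.mem_colon_singleton, Submodule.mem_bot] at hn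
      exact ⟨n, 1, q.primeCompl.one_mem, by rw [one_mul, ← map_smul, hn, map_zero]⟩
  · rintro ⟨z, hz⟩
    by_contra hn
    obtain ⟨g, hg, hreg⟩ := RG.FibrePoint.nzdAt_of_not_assoc hn
    obtain ⟨n, w, hw, hwz⟩ := hz.2 g hg
    induction n generalizing w with
    | zero => exact hz.1 w hw (by rwa [pow_zero, mul_one] at hwz)
    | succ n ih =>
      rw [show w * g ^ (n + 1) = g * (w * g ^ n) by ring, mul_smul] at hwz
      obtain ⟨w', hw', hwz'⟩ := hreg _ hwz
      exact ih (w' * w) (fun h => (Ideal.IsPrime.mem_or_mem inferInstance h).elim hw' hw)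
        (by rw [mul_assoc, mul_smul]; exact hwz')

set_option maxHeartbeats 400000 in
/-- The model argument, for an arbitrary finitely presented algebra surjecting to `S`. -/
theorem exists_minAt_iff_of_model (P : Type u) [CommRing P] [Algebra R P] [Algebra.FinitePresentation R P]
    [Algebra P S] [IsScalarTower R P S] (hπ : Function.Surjective (algebraMap P S))
    [Module P N] [IsScalarTower P S N] [IsScalarTower R P N] [Module.Finite P N]
    (hflat : _root_.FlatCA.FlatAt R q N) (W : Type u) [AddCommGroup W] [Module R W] :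
    (∃ z : N ⊗[R] W, MinAt q z) ↔
      (p ∈ _root_.FlatCA.weakAss R W ∧
        _root_.FlatCA.fiberIdeal p q ∈ associatedPrimes (p.Fiber S) (_root_.FlatCA.fiberMod p S N)) := by
  classical
  haveI : Algebra.FiniteType R P := inferInstance
  let q₀ : Ideal P := q.comap (algebraMap P S)
  haveI : q₀.LiesOver p := ⟨by
    rw [Ideal.under_def, Ideal.comap_comap, ← IsScalarTower.algebraMap_eq]
    exact q.over_def p⟩
  have hfrac : ∀ c : S, ∃ u : P, u ∉ q₀ ∧ ∃ a : P, algebraMap P S u * c = algebraMap P S a := fun c => by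
    obtain ⟨a, ha⟩ := hπ c
    exact ⟨1, q₀.primeCompl.one_mem, a, by rw [map_one, one_mul]; exact ha.symm⟩
  have hflat₀ : Module.Flat R (LocalizedModule q₀.primeCompl N) := by
    refine (H19.FlatLocus.flat_iff_killed q₀.primeCompl (LocalizedModule.mkLinearMap q₀.primeCompl N)).2
      fun J ξ hξ => ?_
    obtain ⟨w, hw, hwξ⟩ := (H19.FlatLocus.flat_iff_killed q.primeCompl
      (LocalizedModule.mkLinearMap q.primeCompl N)).1 hflat J ξ hξ
    obtain ⟨a, rfl⟩ := hπ w
    exact ⟨a, hw, (algebraMap_smul S a ξ).symm.trans hwξ⟩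
  -- the finitely presented model
  obtain ⟨k, π', hπ'⟩ := Module.Finite.exists_fin' P N
  obtain ⟨T, hT, hgen⟩ := RG.Induct.fpAt_of_flat p q₀ hflat₀ k π' hπ'
  let K : Submodule P (Fin k → P) := Submodule.span P (T : Set (Fin k → P))
  let N₁ := (Fin k → P) ⧸ K
  let θ : N₁ →ₗ[P] N := K.liftQ π' (Submodule.span_le.2 fun t ht => LinearMap.mem_ker.2 (hT t ht))
  have hθ : BijAt q₀ θ := by
    refine ⟨fun y => ⟨1, q₀.primeCompl.one_mem, ?_⟩, fun v hv => ?_⟩
    · obtain ⟨x, rfl⟩ := hπ' y
      exact ⟨Submodule.Quotient.mk x, (Submodule.liftQ_apply _ _ _).trans (one_smul P (π' x)).symm⟩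
    · obtain ⟨x, rfl⟩ := Submodule.Quotient.mk_surjective _ v
      obtain ⟨w, hw, hwx⟩ := hgen x hv
      exact ⟨w, hw, by rw [← Submodule.Quotient.mk_smul, Submodule.Quotient.mk_eq_zero]; exact hwx⟩
  haveI : Module.FinitePresentation P N₁ :=
    Module.finitePresentation_of_surjective K.mkQ K.mkQ_surjective (by rw [K.ker_mkQ]; exact ⟨T, rfl⟩)
  have hflat₁ : Module.Flat R (LocalizedModule q₀.primeCompl N₁) := by
    refine (H19.FlatLocus.flat_iff_killed q₀.primeCompl (LocalizedModule.mkLinearMap q₀.primeCompl N₁)).2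
      fun J ξ hξ => ?_
    let θJ := TensorProduct.AlgebraTensorModule.rTensor R J θ
    have h0 : J.subtype.lTensor N (θJ ξ) = 0 := by
      show J.subtype.lTensor N ((θ.restrictScalars R).rTensor J ξ) = 0
      rw [← LinearMap.comp_apply, LinearMap.lTensor_comp_rTensor, ← LinearMap.rTensor_comp_lTensor,
        LinearMap.comp_apply, hξ, map_zero]
    obtain ⟨w, hw, hwξ⟩ := (H19.FlatLocus.flat_iff_killed q₀.primeCompl
      (LocalizedModule.mkLinearMap q₀.primeCompl N)).1 hflat₀ J _ h0
    obtain ⟨d, hd, hdξ⟩ := (bijAt_rTensor q₀ hθ J).2 (w • ξ) (by rw [map_smul]; exact hwξ)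
    exact ⟨d * w, q₀.primeCompl.mul_mem hd hw, by rw [mul_smul, hdξ]⟩
  obtain ⟨g, hg, hflat₂⟩ := RG.OpenFlat.exists_flat_away (R := R) q₀ hflat₁
  let M := LocalizedModule (Submonoid.powers g) N₁
  let ν : N₁ →ₗ[P] M := LocalizedModule.mkLinearMap (Submonoid.powers g) N₁
  have hgpow : ∀ s : Submonoid.powers g, (s : P) ∉ q₀ := by
    rintro ⟨_, j, rfl⟩ h
    exact hg (Ideal.IsPrime.mem_of_pow_mem inferInstance j h)
  have hν : BijAt q₀ ν := by
    refine ⟨fun y => ?_, fun v hv => ?_⟩
    · obtain ⟨⟨x, s⟩, hx⟩ := IsLocalizedModule.surj (Submonoid.powers g) ν y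
      exact ⟨s, hgpow s, x, hx.symm⟩
    · obtain ⟨s, hs⟩ := (IsLocalizedModule.eq_zero_iff (Submonoid.powers g) ν).1 hv
      exact ⟨s, hgpow s, hs⟩
  let P' := Localization.Away g
  let q' : Ideal P' := q₀.map (algebraMap P P')
  have hdisj : Disjoint (Submonoid.powers g : Set P) (q₀ : Set P) :=
    Set.disjoint_left.2 fun s hs hs' => hgpow ⟨s, hs⟩ hs'
  haveI : q'.IsPrime := IsLocalization.isPrime_of_isPrime_disjoint (Submonoid.powers g) P' q₀ inferInstance hdisj
  have hq' : q'.comap (algebraMap P P') = q₀ :=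
    IsLocalization.under_map_of_isPrime_disjoint (Submonoid.powers g) P' inferInstance hdisj
  haveI : q'.LiesOver p := ⟨by
    rw [Ideal.under_def, IsScalarTower.algebraMap_eq R P P', ← Ideal.comap_comap, hq']
    exact q₀.over_def p⟩
  have hfrac' : ∀ c : P', ∃ u : P, u ∉ q₀ ∧ ∃ a : P, algebraMap P P' u * c = algebraMap P P' a := fun c => by
    obtain ⟨⟨a, s⟩, hx⟩ := IsLocalization.surj (Submonoid.powers g) c
    exact ⟨s, hgpow s, a, by rw [mul_comm]; exact hx⟩
  haveI : Module.Flat R M := hflat₂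
  haveI : Module.FinitePresentation P' M := inferInstance
  haveI : Algebra.FinitePresentation R P' := Algebra.FinitePresentation.trans R P P'
  have key : ∀ (V : Type u) [AddCommGroup V] [Module R V],
      (∃ z : N ⊗[R] V, MinAt q z) ↔ ∃ z : M ⊗[R] V, MinAt q' z := by
    intro V _ _
    calc (∃ z : N ⊗[R] V, MinAt q z) ↔ ∃ z : N ⊗[R] V, MinAt q₀ z :=
          exists_congr fun z => (minAt_iff_of_ringHom q rfl hfrac).symm
      _ ↔ ∃ z : N₁ ⊗[R] V, MinAt q₀ z := (exists_minAt_iff (bijAt_rTensor q₀ hθ V)).symm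
      _ ↔ ∃ z : M ⊗[R] V, MinAt q₀ z := exists_minAt_iff (bijAt_rTensor q₀ hν V)
      _ ↔ ∃ z : M ⊗[R] V, MinAt q' z := exists_congr fun z => minAt_iff_of_ringHom q' hq' hfrac'
  rw [key W, assoc_iff_minAt N p q, key p.ResidueField, ← assoc_iff_minAt M p q']
  exact exists_minAt_iff_fp M p q' W

/-- Weakly associated points of `N ⊗ W` at a flat point of `N`. -/
theorem exists_minAt_iff_of_flatAt (hflat : _root_.FlatCA.FlatAt R q N) (W : Type u) [AddCommGroup W] [Module R W] :
    (∃ z : N ⊗[R] W, MinAt q z) ↔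
      (p ∈ _root_.FlatCA.weakAss R W ∧
        _root_.FlatCA.fiberIdeal p q ∈ associatedPrimes (p.Fiber S) (_root_.FlatCA.fiberMod p S N)) := by
  obtain ⟨n, π, hπ⟩ := Algebra.FiniteType.iff_quotient_mvPolynomial''.1 ‹Algebra.FiniteType R S›
  letI : Algebra (MvPolynomial (Fin n) R) S := π.toRingHom.toAlgebra
  haveI : IsScalarTower R (MvPolynomial (Fin n) R) S := IsScalarTower.of_algebraMap_eq fun a => (π.commutes a).symm
  letI : Module (MvPolynomial (Fin n) R) N := Module.compHom N π.toRingHom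
  haveI : IsScalarTower (MvPolynomial (Fin n) R) S N := IsScalarTower.of_algebraMap_smul fun _ _ => rfl
  haveI : IsScalarTower R (MvPolynomial (Fin n) R) N := IsScalarTower.of_algebraMap_smul fun a x => by
    show π (algebraMap R (MvPolynomial (Fin n) R) a) • x = a • x
    rw [π.commutes, algebraMap_smul]
  haveI : Module.Finite (MvPolynomial (Fin n) R) S :=
    Module.Finite.of_surjective (Algebra.linearMap (MvPolynomial (Fin n) R) S) hπ
  haveI : Module.Finite (MvPolynomial (Fin n) R) N := Module.Finite.trans S N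
  exact exists_minAt_iff_of_model N p q (MvPolynomial (Fin n) R) hπ hflat W

/-- A weakly associated point of `N` itself at which `N` is flat is associated in its fibre. -/
theorem assoc_of_minAt (hflat : _root_.FlatCA.FlatAt R q N) {z : N} (hz : MinAt q z) :
    _root_.FlatCA.fiberIdeal p q ∈ associatedPrimes (p.Fiber S) (_root_.FlatCA.fiberMod p S N) := by
  let e := TensorProduct.AlgebraTensorModule.rid R S N
  refine ((exists_minAt_iff_of_flatAt N p q hflat R).1 ⟨e.symm z, ?_, fun c hc => ?_⟩).2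
  · intro w hw h
    rw [← map_smul, LinearEquiv.map_eq_zero_iff] at h
    exact hz.1 w hw h
  · obtain ⟨n, w, hw, h⟩ := hz.2 c hc
    exact ⟨n, w, hw, by rw [← map_smul, h, map_zero]⟩

/-- A nonzero element of a flat module is detected at an associated point of some fibre. -/
theorem exists_assoc_of_ne_zero [Module.Flat R N] (hflat : ∀ (Q : Ideal S) [Q.IsPrime], _root_.FlatCA.FlatAt R Q N)
    {z : N} (hz : z ≠ 0) :
    ∃ (t : Ideal R) (_ : t.IsPrime) (Q : Ideal S) (_ : Q.IsPrime) (_ : Q.LiesOver t),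
      _root_.FlatCA.fiberIdeal t Q ∈ associatedPrimes (t.Fiber S) (_root_.FlatCA.fiberMod t S N) ∧
        ∀ w ∉ Q, w • z ≠ 0 := by
  obtain ⟨Q, hQ⟩ := Ideal.nonempty_minimalPrimes (I := (Submodule.span S {z}).annihilator) fun h => hz (by
    simpa using (Submodule.mem_annihilator_span_singleton z (1 : S)).1 (h ▸ trivial))
  haveI := hQ.1.1
  haveI : Q.LiesOver (Q.under R) := ⟨rfl⟩
  have hm : MinAt Q z := minAt_iff.2 hQ
  exact ⟨Q.under R, inferInstance, Q, inferInstance, inferInstance, assoc_of_minAt N _ Q (hflat Q) hm, hm.1⟩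

end Main

end Groth.Agent.Lib.RelAss.FlatAtPoint
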