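import Groth.Agent.Lib.FlatCA.ImpurityReduce
import Groth.Agent.H22.SupportBC
import Mathlib.RingTheory.Ideal.AssociatedPrime.Localization

/-!
# Relative associated points near the generic point of the base
-/

universe u

open TensorProduct

attribute [local instance] Algebra.TensorProduct.rightAlgebra

set_option linter.style.haveILetI false

namespace Groth.Agent.Lib.RelAss.Generic

open Groth.Agent.Lib.FlatCA

variable {A B : Type u} [CommRing A] [CommRing B] [Algebra A B] {M : Type u} [AddCommGroup M] [Module B M]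
  [Module A M] [IsScalarTower A B M]

/-- Scalars outside the point act injectively on a tensor with its residue field. -/
theorem eq_zero_of_smul (p : Ideal A) [p.IsPrime] {a : A} (ha : a ∉ p) {y : M ⊗[A] p.ResidueField}
    (hy : algebraMap A B a • y = 0) : y = 0 := by
  have hu : IsUnit (algebraMap A p.ResidueField a) :=
    isUnit_iff_ne_zero.2 fun h => ha (Ideal.algebraMap_residueField_eq_zero.1 h)
  let e := LinearEquiv.lTensor M
    ((LinearEquiv.smulOfUnit hu.unit (R := p.ResidueField) (M := p.ResidueField)).restrictScalars A)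
  have he : ∀ z : M ⊗[A] p.ResidueField, e z = algebraMap A B a • z := fun z => by
    induction z using TensorProduct.induction_on with
    | zero => simp
    | add x y hx hy => rw [map_add, hx, hy, smul_add]
    | tmul x y =>
      rw [algebraMap_smul, ← TensorProduct.tmul_smul, Algebra.smul_def]
      rfl
  exact e.map_eq_zero_iff.1 ((he y).trans hy)

/-- Up to a scalar outside the point an element of the tensor is a simple one. -/
theorem exists_smul_eq_tmul (p : Ideal A) [p.IsPrime] (y : M ⊗[A] p.ResidueField) :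
    ∃ s : A, s ∉ p ∧ ∃ x : M, algebraMap A B s • y = x ⊗ₜ[A] (1 : p.ResidueField) := by
  induction y using TensorProduct.induction_on with
  | zero => exact ⟨1, p.primeCompl.one_mem, 0, by rw [smul_zero, TensorProduct.zero_tmul]⟩
  | add a b ha hb =>
    obtain ⟨c, hc, x, hx⟩ := ha
    obtain ⟨d, hd, x', hx'⟩ := hb
    refine ⟨c * d, p.primeCompl.mul_mem hc hd, algebraMap A B d • x + algebraMap A B c • x', ?_⟩
    rw [map_mul, smul_add, TensorProduct.add_tmul, ← TensorProduct.smul_tmul', ← TensorProduct.smul_tmul',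
      ← hx, ← hx', smul_smul, smul_smul, mul_comm (algebraMap A B d)]
  | tmul m k =>
    obtain ⟨a, b, hb, rfl⟩ := IsFractionRing.div_surjective (A := A ⧸ p) k
    obtain ⟨a, rfl⟩ := Ideal.Quotient.mk_surjective a
    obtain ⟨b, rfl⟩ := Ideal.Quotient.mk_surjective b
    have hb' : b ∉ p := fun h => nonZeroDivisors.ne_zero hb (Ideal.Quotient.eq_zero_iff_mem.2 h)
    refine ⟨b, hb', a • m, ?_⟩
    rw [algebraMap_smul, ← TensorProduct.tmul_smul, TensorProduct.smul_tmul, Algebra.smul_def a (1 : p.ResidueField),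
      mul_one, Algebra.smul_def b]
    congr 1
    rw [← Ideal.Quotient.algebraMap_eq, ← IsScalarTower.algebraMap_apply, ← IsScalarTower.algebraMap_apply,
      mul_div_assoc', mul_div_cancel_left₀ _ fun h => hb' (Ideal.algebraMap_residueField_eq_zero.1 h)]

theorem ker_mk_fibre [IsDomain A] {x : M} (h : x ⊗ₜ[A] (1 : (⊥ : Ideal A).ResidueField) = 0) :
    ∃ a : A, a ≠ 0 ∧ a • x = 0 := by
  let K := (⊥ : Ideal A).ResidueField
  have hinj : ∀ r : A, algebraMap A K r = 0 ↔ r = 0 := fun r =>
    Ideal.algebraMap_residueField_eq_zero.trans (Submodule.mem_bot A)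
  haveI : FaithfulSMul A K := (faithfulSMul_iff_algebraMap_injective A K).2
    ((injective_iff_map_eq_zero _).2 fun r hr => (hinj r).1 hr)
  haveI : IsFractionRing A K := IsFractionRing.of_field A K fun z => by
    obtain ⟨a, b, -, rfl⟩ := IsFractionRing.div_surjective (A := A ⧸ (⊥ : Ideal A)) z
    obtain ⟨a, rfl⟩ := Ideal.Quotient.mk_surjective a
    obtain ⟨b, rfl⟩ := Ideal.Quotient.mk_surjective b
    exact ⟨a, b, by simp [← Ideal.Quotient.algebraMap_eq, ← IsScalarTower.algebraMap_apply]⟩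
  haveI : Module.Flat A K := IsLocalization.flat K (nonZeroDivisors A)
  have h1 : (1 : K) ⊗ₜ[A] x = 0 := by
    apply (TensorProduct.comm A K M).injective
    rw [TensorProduct.comm_tmul, map_zero, h]
  obtain ⟨a, ha, ha'⟩ := WeakAss.exists_kill_of_flat x h1 (⊥ : Ideal A) (⊥ : Ideal K)
    (Ideal.ext fun r => by rw [Ideal.mem_comap, Submodule.mem_bot, hinj, Submodule.mem_bot])
  exact ⟨a, fun h => ha (h ▸ zero_mem _), ha'⟩

/-- A submodule killed by a power of a scalar outside the point is invisible on the fibre. -/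
theorem injective_mkQ_tensor (q : Ideal A) [q.IsPrime] (K : Submodule B M) {f : A} (hf : f ∉ q)
    (hK : ∀ x ∈ K, ∃ m : ℕ, f ^ m • x = 0) :
    Function.Injective (AlgebraTensorModule.map K.mkQ (LinearMap.id : q.ResidueField →ₗ[A] q.ResidueField)) := by
  refine (injective_iff_map_eq_zero _).2 fun w hw => ?_
  have hex : Function.Exact ((K.subtype.restrictScalars A).rTensor q.ResidueField)
      ((K.mkQ.restrictScalars A).rTensor q.ResidueField) :=
    rTensor_exact q.ResidueField (LinearMap.exact_subtype_mkQ K : Function.Exact K.subtype K.mkQ)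
      (Submodule.mkQ_surjective K)
  obtain ⟨v, rfl⟩ := (hex w).1 hw
  clear hw
  induction v using TensorProduct.induction_on with
  | zero => exact map_zero _
  | add a b ha hb => rw [map_add, ha, hb, add_zero]
  | tmul k c =>
    obtain ⟨m, hm⟩ := hK k.1 k.2
    refine eq_zero_of_smul (B := B) q (a := f ^ m) (fun h => hf (Ideal.IsPrime.mem_of_pow_mem ‹_› m h)) ?_
    show algebraMap A B (f ^ m) • (k.1 ⊗ₜ[A] c) = 0
    rw [TensorProduct.smul_tmul', algebraMap_smul, hm, TensorProduct.zero_tmul]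

section Domain

variable [IsDomain A] [Algebra.FiniteType A B] [Module.Finite B M]

/-- A linear map of finite modules injective at the generic point is injective on nearby fibres. -/
theorem exists_generic_injective {X : Type u} [AddCommGroup X] [Module B X] [Module A X] [IsScalarTower A B X]
    (ι : X →ₗ[B] M) (hι : Function.Injective ι) :
    ∃ f : A, f ≠ 0 ∧ ∀ (q : Ideal A) [q.IsPrime], f ∉ q →
      Function.Injective (AlgebraTensorModule.map ι (LinearMap.id : q.ResidueField →ₗ[A] q.ResidueField)) := by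
  obtain ⟨f, hf, hfree, -⟩ := Groth.Agent.S0389.result (R := A) (S := B) (M := M ⧸ LinearMap.range ι)
  refine ⟨f, hf, fun q _ hq => ?_⟩
  let L := Localization.Away f
  let φ : L →ₐ[A] q.ResidueField := IsLocalization.Away.liftAlgHom f (f := Algebra.ofId A q.ResidueField)
    (isUnit_iff_ne_zero.2 fun h => hq (Ideal.algebraMap_residueField_eq_zero.1 h))
  letI := φ.toRingHom.toAlgebra
  haveI : IsScalarTower A L q.ResidueField := IsScalarTower.of_algebraMap_eq fun r => (φ.commutes r).symm
  haveI : Module.Flat A L := IsLocalization.flat _ (Submonoid.powers f)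
  haveI : Module.Projective L (L ⊗[A] (M ⧸ LinearMap.range (ι.restrictScalars A))) :=
    Module.Projective.of_equiv (LinearEquiv.baseChange A L _ _
      (Submodule.Quotient.restrictScalarsEquiv A (LinearMap.range ι))).symm
  have h := (LinearMap.lTensor_inj_iff_rTensor_inj q.ResidueField (ι.restrictScalars A)).1
    (ImpurityReduce.lTensor_injective_of_split L (ι.restrictScalars A) hι q.ResidueField)
  exact fun a b hab => h hab

/-- An associated point of the generic fibre spreads out to the generic points of its closure. -/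
theorem exists_generic_minimal (P : Ideal B) [P.IsPrime] [P.LiesOver (⊥ : Ideal A)]
    (hass : P ∈ associatedPrimes B (_root_.FlatCA.fiberMod (⊥ : Ideal A) B M)) :
    ∃ f : A, f ≠ 0 ∧ ∀ (q : Ideal A) [q.IsPrime], f ∉ q →
      (∃ P₁ : Ideal B, P₁.IsPrime ∧ P₁.LiesOver q ∧ P ≤ P₁) ∧
      ∀ (P₁ : Ideal B) [P₁.IsPrime] [P₁.LiesOver q], P ≤ P₁ →
        (∀ P₂ : Ideal B, P₂.IsPrime → P₂.LiesOver q → P ≤ P₂ → P₂ ≤ P₁ → P₁ ≤ P₂) →
        P₁ ∈ associatedPrimes B (_root_.FlatCA.fiberMod q B M) := by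
  obtain ⟨-, z, hz⟩ := hass
  obtain ⟨s, hs, x, hx⟩ := exists_smul_eq_tmul (B := B) (⊥ : Ideal A) (FiberMod.fiberModEquiv (⊥ : Ideal A) B M z)
  have hP : ∀ b : B, b ∈ P ↔ ∃ n : ℕ, b ^ n • (x ⊗ₜ[A] (1 : (⊥ : Ideal A).ResidueField)) = 0 := fun b => by
    rw [hz]
    refine exists_congr fun n => ?_
    rw [Submodule.mem_colon_singleton, Submodule.mem_bot, ← hx, smul_comm, ← map_smul]
    refine ⟨fun h => by rw [h, map_zero, smul_zero], fun h => ?_⟩
    exact (FiberMod.fiberModEquiv (⊥ : Ideal A) B M).map_eq_zero_iff.1 (eq_zero_of_smul _ hs h)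
  let ι₀ : B →ₗ[B] M := LinearMap.toSpanSingleton B M x
  let J : Ideal B := LinearMap.ker ι₀
  have hJP : J ≤ P := fun b hb => by
    have hb' : b • x = 0 := hb
    exact (hP b).2 ⟨1, by rw [pow_one, TensorProduct.smul_tmul', hb', TensorProduct.zero_tmul]⟩
  let ι : (B ⧸ J) →ₗ[B] M := Submodule.liftQ J ι₀ le_rfl
  have hι : Function.Injective ι := LinearMap.ker_eq_bot.1 (Submodule.ker_liftQ_eq_bot _ _ _ le_rfl)
  obtain ⟨f₁, hf₁, hinj⟩ := exists_generic_injective (A := A) ι hι
  obtain ⟨f₂, hf₂, hfree, -⟩ := Groth.Agent.S0389.result (R := A) (S := B) (M := B ⧸ J)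
  let L := Localization.Away f₂
  haveI : Module.Flat A L := IsLocalization.flat _ (Submonoid.powers f₂)
  haveI : Module.IsTorsionFree L (L ⊗[A] (B ⧸ J)) := inferInstance
  -- away from `f₂` the ideal `J` agrees with `P` up to radical
  have hrad : ∀ b ∈ P, ∃ m n : ℕ, algebraMap A B f₂ ^ m * b ^ n ∈ J := fun b hb => by
    obtain ⟨n, hn⟩ := (hP b).1 hb
    rw [TensorProduct.smul_tmul'] at hn
    obtain ⟨a, ha, ha'⟩ := ker_mk_fibre hn
    haveI : IsDomain L := IsLocalization.isDomain_localization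
      (powers_le_nonZeroDivisors_of_noZeroDivisors hf₂)
    have hane : algebraMap A L a ≠ 0 := fun h0 => ha (IsLocalization.injective L
      (powers_le_nonZeroDivisors_of_noZeroDivisors hf₂) (by rw [h0, map_zero]))
    have h1 : algebraMap A L a • ((1 : L) ⊗ₜ[A] (Ideal.Quotient.mk J (b ^ n) : B ⧸ J)) = 0 := by
      rw [algebraMap_smul, ← TensorProduct.tmul_smul]
      have h0 : a • (Ideal.Quotient.mk J (b ^ n) : B ⧸ J) = 0 := by
        rw [← algebraMap_smul B a (Ideal.Quotient.mk J (b ^ n)), ← Ideal.Quotient.mk_eq_mk, ← Submodule.Quotient.mk_smul,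
          Submodule.Quotient.mk_eq_zero, smul_eq_mul]
        show (algebraMap A B a * b ^ n) • x = 0
        rw [mul_smul, algebraMap_smul]
        exact ha'
      rw [h0, TensorProduct.tmul_zero]
    have h2 := (smul_eq_zero.1 h1).resolve_left hane
    haveI : IsLocalizedModule (Submonoid.powers f₂) (TensorProduct.mk A L (B ⧸ J) 1) :=
      (isLocalizedModule_iff_isBaseChange (Submonoid.powers f₂) L _).2 (TensorProduct.isBaseChange A (B ⧸ J) L)
    obtain ⟨⟨_, m, rfl⟩, hm⟩ :=
      (IsLocalizedModule.eq_zero_iff (Submonoid.powers f₂) (TensorProduct.mk A L (B ⧸ J) 1)).1 h2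
    refine ⟨m, n, ?_⟩
    have hm' : algebraMap A B (f₂ ^ m) • (Ideal.Quotient.mk J (b ^ n) : B ⧸ J) = 0 := by
      rw [algebraMap_smul]
      exact hm
    rwa [← Ideal.Quotient.mk_eq_mk, ← Submodule.Quotient.mk_smul, Submodule.Quotient.mk_eq_zero, smul_eq_mul,
      map_pow] at hm'
  refine ⟨f₁ * f₂, mul_ne_zero hf₁ hf₂, fun q _ hq => ?_⟩
  have hq₁ : f₁ ∉ q := fun h => hq (q.mul_mem_right _ h)
  have hq₂ : f₂ ∉ q := fun h => hq (q.mul_mem_left _ h)
  have hcontain : ∀ Q : Ideal B, Q.IsPrime → Q.LiesOver q → J ≤ Q → P ≤ Q := fun Q hQ hQq hJQ b hb => by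
    obtain ⟨m, n, hmn⟩ := hrad b hb
    exact hQ.mem_of_pow_mem n ((hQ.mem_or_mem (hJQ hmn)).resolve_left fun h =>
      hq₂ ((Ideal.mem_of_liesOver Q q f₂).2 (hQ.mem_of_pow_mem m h)))
  have hsupp : ∀ (r : Ideal (q.Fiber B)) [hr : r.IsPrime],
      (⟨r, hr⟩ : PrimeSpectrum (q.Fiber B)) ∈ Module.support (q.Fiber B) (_root_.FlatCA.fiberMod q B (B ⧸ J)) ↔
        J ≤ r.comap (Impurity.incl q) := fun r hr => by
    refine (Set.ext_iff.1 (Groth.Agent.H22.SupportBC.support_baseChange (R' := q.Fiber B) (B ⧸ J)) _).trans ?_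
    rw [Set.mem_preimage, Module.support_eq_zeroLocus, Ideal.annihilator_quotient]
    rfl
  refine ⟨?_, fun P₁ _ _ hP₁ hmin => ?_⟩
  · obtain ⟨φ, -⟩ : ∃ φ : L →ₐ[A] q.ResidueField, True :=
      ⟨IsLocalization.Away.liftAlgHom f₂ (f := Algebra.ofId A q.ResidueField)
        (isUnit_iff_ne_zero.2 fun h => hq₂ (Ideal.algebraMap_residueField_eq_zero.1 h)), trivial⟩
    letI := φ.toRingHom.toAlgebra
    haveI : IsScalarTower A L q.ResidueField := IsScalarTower.of_algebraMap_eq fun r => (φ.commutes r).symm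
    let bas := Module.Free.chooseBasis L (L ⊗[A] (B ⧸ J))
    have hnt : Nontrivial (L ⊗[A] (B ⧸ J)) := by
      refine ⟨⟨(1 : L) ⊗ₜ 1, 0, fun h => ?_⟩⟩
      haveI : IsLocalizedModule (Submonoid.powers f₂) (TensorProduct.mk A L (B ⧸ J) 1) :=
        (isLocalizedModule_iff_isBaseChange (Submonoid.powers f₂) L _).2 (TensorProduct.isBaseChange A (B ⧸ J) L)
      obtain ⟨⟨_, m, rfl⟩, hm⟩ :=
        (IsLocalizedModule.eq_zero_iff (Submonoid.powers f₂) (TensorProduct.mk A L (B ⧸ J) 1)).1 h
      have hm' : algebraMap A B (f₂ ^ m) • (1 : B ⧸ J) = 0 := by rw [algebraMap_smul]; exact hm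
      rw [show (1 : B ⧸ J) = Submodule.Quotient.mk 1 from rfl, ← Submodule.Quotient.mk_smul,
        Submodule.Quotient.mk_eq_zero, smul_eq_mul, mul_one] at hm'
      exact pow_ne_zero m hf₂ ((Submodule.mem_bot A).1 ((Ideal.mem_of_liesOver P (⊥ : Ideal A) _).2 (hJP hm')))
    obtain ⟨i⟩ := bas.index_nonempty
    have h1 : Nontrivial (q.ResidueField ⊗[L] (L ⊗[A] (B ⧸ J))) :=
      ⟨⟨(Algebra.TensorProduct.basis q.ResidueField bas) i, 0, Module.Basis.ne_zero _ i⟩⟩
    haveI h2 : Nontrivial ((B ⧸ J) ⊗[A] q.ResidueField) :=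
      ((AlgebraTensorModule.cancelBaseChange A L L q.ResidueField (B ⧸ J)).toEquiv.trans
        (TensorProduct.comm A q.ResidueField (B ⧸ J)).toEquiv).symm.nontrivial
    have h3 : Nontrivial (_root_.FlatCA.fiberMod q B (B ⧸ J)) :=
      (FiberMod.fiberModEquiv q B (B ⧸ J)).toEquiv.nontrivial
    obtain ⟨⟨r, hr⟩, hrs⟩ := (Module.nonempty_support_iff (R := q.Fiber B)).2 h3
    haveI := hr
    exact ⟨r.comap (Impurity.incl q), inferInstance, FibreAss.liesOver_comap q r,
      hcontain _ inferInstance (FibreAss.liesOver_comap q r) ((hsupp r).1 hrs)⟩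
  · let j : (B ⧸ J) ⊗[A] q.ResidueField →ₗ[B] M ⊗[A] q.ResidueField := AlgebraTensorModule.map ι LinearMap.id
    have hj : Function.Injective j := hinj q hq₁
    let k := (FiberMod.fiberModEquiv q B M).symm.toLinearMap.comp
      (j.comp (FiberMod.fiberModEquiv q B (B ⧸ J)).toLinearMap)
    have hk : Function.Injective k :=
      (FiberMod.fiberModEquiv q B M).symm.injective.comp (hj.comp (FiberMod.fiberModEquiv q B (B ⧸ J)).injective)
    refine associatedPrimes.subset_of_injective hk ?_
    rw [← FibreAss.assoc_iff (B ⧸ J) q P₁]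
    haveI : IsNoetherianRing (q.Fiber B) := Algebra.FiniteType.isNoetherianRing q.ResidueField _
    haveI : Module.Finite (q.Fiber B) (_root_.FlatCA.fiberMod q B (B ⧸ J)) :=
      Module.Finite.base_change B (q.Fiber B) (B ⧸ J)
    obtain ⟨hpr, hcomap⟩ := WeakAss.fiberIdeal_prime q P₁
    refine Module.associatedPrimes.minimalPrimes_annihilator_subset_associatedPrimes _ _ ?_
    have key : ∀ (r : Ideal (q.Fiber B)) [hr : r.IsPrime],
        Module.annihilator (q.Fiber B) (_root_.FlatCA.fiberMod q B (B ⧸ J)) ≤ r ↔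
          J ≤ r.comap (Impurity.incl q) := fun r hr => by
      rw [← hsupp r, Module.support_eq_zeroLocus]
      exact Iff.rfl
    haveI := hpr
    refine ⟨⟨hpr, (key _).2 (by rw [hcomap]; exact hJP.trans hP₁)⟩, fun r hr hrle => ?_⟩
    haveI := hr.1
    haveI : (r.comap (Impurity.incl q)).LiesOver q := FibreAss.liesOver_comap q r
    rw [← WeakAss.map_comap_incl q r]
    exact Ideal.map_mono (hmin _ inferInstance inferInstance
      (hcontain _ inferInstance inferInstance ((key r).1 hr.2)) ((Ideal.comap_mono hrle).trans hcomap.le))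

/-- Associated points avoiding a closed set at the generic point avoid it on nearby fibres. -/
theorem exists_generic_avoid {n : ℕ} (h : Fin n → B)
    (hh : ∀ P : Ideal B, P.LiesOver (⊥ : Ideal A) → P ∈ associatedPrimes B (_root_.FlatCA.fiberMod (⊥ : Ideal A) B M) →
      ∃ i, h i ∉ P) :
    ∃ f : A, f ≠ 0 ∧ ∀ (q : Ideal A) [q.IsPrime], f ∉ q → ∀ P₁ : Ideal B, P₁.LiesOver q →
      P₁ ∈ associatedPrimes B (_root_.FlatCA.fiberMod q B M) → ∃ i, h i ∉ P₁ := by
  -- elements killed by all the functions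
  let ψ : M →ₗ[B] (Fin n → M) := LinearMap.pi fun i => LinearMap.lsmul B M (h i)
  let K := LinearMap.ker ψ
  have hK : ∀ x ∈ K, ∃ a : A, a ≠ 0 ∧ a • x = 0 := fun x hx => by
    suffices hx0 : x ⊗ₜ[A] (1 : (⊥ : Ideal A).ResidueField) = 0 from ker_mk_fibre hx0
    by_contra hne
    let y := (FiberMod.fiberModEquiv (⊥ : Ideal A) B M).symm (x ⊗ₜ[A] 1)
    haveI : IsNoetherianRing ((⊥ : Ideal A).Fiber B) := Algebra.FiniteType.isNoetherianRing (⊥ : Ideal A).ResidueField _
    obtain ⟨r, hr⟩ := Ideal.nonempty_minimalPrimes (I := Submodule.colon (⊥ : Submodule ((⊥ : Ideal A).Fiber B) _) {y})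
      (fun htop => hne ((FiberMod.fiberModEquiv (⊥ : Ideal A) B M).symm.map_eq_zero_iff.1 (by
        have := (Ideal.eq_top_iff_one _).1 htop
        rwa [Submodule.mem_colon_singleton, one_smul, Submodule.mem_bot] at this)))
    obtain ⟨w, hw⟩ := Submodule.exists_eq_colon_of_mem_minimalPrimes hr
    haveI := hr.1.1
    let P := r.comap (Impurity.incl (⊥ : Ideal A))
    haveI : P.LiesOver (⊥ : Ideal A) := FibreAss.liesOver_comap _ r
    have hass : P ∈ associatedPrimes B (_root_.FlatCA.fiberMod (⊥ : Ideal A) B M) := by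
      rw [← FibreAss.assoc_iff M (⊥ : Ideal A) P]
      refine ⟨(WeakAss.fiberIdeal_prime _ P).1, w, ?_⟩
      rw [show _root_.FlatCA.fiberIdeal (⊥ : Ideal A) P = r from WeakAss.map_comap_incl _ r, ← hw]
      exact hr.1.1.radical.symm
    obtain ⟨i, hi⟩ := hh P inferInstance hass
    refine hi (hr.1.2 ?_)
    rw [Submodule.mem_colon_singleton, Submodule.mem_bot, Impurity.incl_smul]
    show h i • (FiberMod.fiberModEquiv (⊥ : Ideal A) B M).symm (x ⊗ₜ[A] 1) = 0
    rw [← map_smul, TensorProduct.smul_tmul', show h i • x = 0 from congrFun hx i, TensorProduct.zero_tmul, map_zero]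
  -- away from some element the kernel vanishes
  obtain ⟨f₀, hf₀, hfree₀, -⟩ := Groth.Agent.S0389.result (R := A) (S := B) (M := M)
  let L₀ := Localization.Away f₀
  haveI : Module.IsTorsionFree L₀ (L₀ ⊗[A] M) := inferInstance
  have hK' : ∀ x ∈ K, ∃ m : ℕ, f₀ ^ m • x = 0 := fun x hx => by
    obtain ⟨a, ha, hax⟩ := hK x hx
    haveI : IsDomain L₀ := IsLocalization.isDomain_localization
      (powers_le_nonZeroDivisors_of_noZeroDivisors hf₀)
    have hane : algebraMap A L₀ a ≠ 0 := fun h0 => ha (IsLocalization.injective L₀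
      (powers_le_nonZeroDivisors_of_noZeroDivisors hf₀) (by rw [h0, map_zero]))
    have h1 : algebraMap A L₀ a • ((1 : L₀) ⊗ₜ[A] x) = 0 := by
      rw [algebraMap_smul, ← TensorProduct.tmul_smul, hax, TensorProduct.tmul_zero]
    have h2 := (smul_eq_zero.1 h1).resolve_left hane
    haveI : IsLocalizedModule (Submonoid.powers f₀) (TensorProduct.mk A L₀ M 1) :=
      (isLocalizedModule_iff_isBaseChange (Submonoid.powers f₀) L₀ _).2 (TensorProduct.isBaseChange A M L₀)
    obtain ⟨⟨_, m, rfl⟩, hm⟩ :=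
      (IsLocalizedModule.eq_zero_iff (Submonoid.powers f₀) (TensorProduct.mk A L₀ M 1)).1 h2
    exact ⟨m, hm⟩
  let ι : (M ⧸ K) →ₗ[B] (Fin n → M) := Submodule.liftQ K ψ le_rfl
  have hι : Function.Injective ι := LinearMap.ker_eq_bot.1 (Submodule.ker_liftQ_eq_bot _ _ _ le_rfl)
  obtain ⟨f₁, hf₁, hinj⟩ := exists_generic_injective (A := A) (M := Fin n → M) ι hι
  refine ⟨f₀ * f₁, mul_ne_zero hf₀ hf₁, fun q _ hq P₁ hl hass => ?_⟩
  have hq₀ : f₀ ∉ q := fun h => hq (q.mul_mem_right _ h)
  have hq₁ : f₁ ∉ q := fun h => hq (q.mul_mem_left _ h)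
  by_contra hcon
  push Not at hcon
  obtain ⟨hprime, z, hz⟩ := hass
  haveI := hprime
  let Φ := FiberMod.fiberModEquiv q B M
  have hkill : ∀ y : M ⊗[A] q.ResidueField, (∀ i, h i • y = 0) → y = 0 := fun y hy => by
    have hK0 := injective_mkQ_tensor q K hq₀ hK'
    apply hK0
    apply hinj q hq₁
    rw [map_zero, map_zero]
    apply (TensorProduct.piLeft A q.ResidueField fun _ : Fin n => M).injective
    funext i
    rw [map_zero, Pi.zero_apply, ← hy i]
    clear hy
    induction y using TensorProduct.induction_on with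
    | zero => simp
    | add a b ha hb => simp only [map_add, Pi.add_apply, smul_add, ha, hb]
    | tmul m c => simp [ι, ψ, TensorProduct.smul_tmul']
  let I : Ideal B := Ideal.span (Set.range h)
  have hI : I ≤ (Submodule.colon (⊥ : Submodule B (_root_.FlatCA.fiberMod q B M)) {z}).radical :=
    Ideal.span_le.2 (by rintro _ ⟨i, rfl⟩; exact hz ▸ hcon i)
  obtain ⟨N, hN⟩ := Ideal.exists_pow_le_of_le_radical_of_fg hI (Submodule.fg_span (Set.finite_range h))
  have hstep : ∀ m : ℕ, (∀ b ∈ I ^ m, b • Φ z = 0) → Φ z = 0 := fun m => by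
    induction m with
    | zero => exact fun hm => by simpa using hm 1 (by simp)
    | succ m ih =>
      refine fun hm => ih fun b hb => hkill _ fun i => ?_
      rw [smul_smul]
      exact hm _ (by rw [pow_succ']; exact Ideal.mul_mem_mul (Ideal.subset_span ⟨i, rfl⟩) hb)
  have hz0 : z = 0 := Φ.map_eq_zero_iff.1 (hstep N fun b hb => by
    rw [← map_smul, (Submodule.mem_colon_singleton.1 (hN hb) : b • z ∈ _) |> fun h => (Submodule.mem_bot B).1 h, map_zero])
  refine hprime.ne_top (hz.trans ?_)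
  rw [hz0, Ideal.radical_eq_top, Ideal.eq_top_iff_one, Submodule.mem_colon_singleton, smul_zero]
  exact zero_mem _

end Domain

end Groth.Agent.Lib.RelAss.Generic
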