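import Groth.Agent.Lib.RelAss.Generic
import Mathlib.RingTheory.LocalRing.Module

/-!
# Associated points of a fibre, read in the stalk
-/

universe u

open TensorProduct

attribute [local instance] Algebra.TensorProduct.rightAlgebra

set_option linter.style.haveILetI false

namespace Groth.Agent.Lib.RelAss.Stalk

open Groth.Agent.Lib.FlatCA

variable {A B C : Type u} [CommRing A] [CommRing B] [CommRing C] [Algebra A B] [Algebra B C] [Algebra A C]
  [IsScalarTower A B C] {N X : Type u} [AddCommGroup N] [Module B N] [AddCommGroup X] [Module B X] [Module C X]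
  [IsScalarTower B C X]

/-- The stalk modulo the maximal ideal of the base is the localisation of the fibre module. -/
theorem exists_isLocalizedModule (p : Ideal A) [p.IsPrime] (P : Ideal B) [P.IsPrime] [P.LiesOver p]
    [IsLocalization.AtPrime C P] (l : N →ₗ[B] X) [IsLocalizedModule P.primeCompl l] :
    ∃ Φ : _root_.FlatCA.fiberMod p B N →ₗ[B] X ⧸ (p.map (algebraMap A C) • (⊤ : Submodule C X)),
      IsLocalizedModule P.primeCompl Φ := by
  letI : Module A N := Module.compHom N (algebraMap A B)
  haveI : IsScalarTower A B N := IsScalarTower.of_algebraMap_smul fun _ _ => rfl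
  letI : Module A X := Module.compHom X (algebraMap A C)
  haveI : IsScalarTower A C X := IsScalarTower.of_algebraMap_smul fun _ _ => rfl
  haveI : IsScalarTower A B X := IsScalarTower.of_algebraMap_smul fun a v => by
    rw [← algebraMap_smul C (algebraMap A B a) v, ← IsScalarTower.algebraMap_apply, algebraMap_smul]
  let I : Ideal C := p.map (algebraMap A C)
  let T := X ⧸ (I • (⊤ : Submodule C X))
  let σ : p.ResidueField →ₐ[A] C ⧸ I := Ideal.ResidueField.liftₐ p (Ideal.Quotient.mkₐ A I |>.comp (Algebra.ofId A C))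
    (fun a ha => Ideal.Quotient.eq_zero_iff_mem.2 (Ideal.mem_map_of_mem _ ha))
    (fun a ha => IsUnit.map (Ideal.Quotient.mk I) (by
      show IsUnit (algebraMap A C a)
      rw [IsScalarTower.algebraMap_apply A B C]
      exact IsLocalization.map_units C (⟨_, fun h => ha ((Ideal.mem_of_liesOver P p a).2 h)⟩ : P.primeCompl)))
  have hsc : ∀ (a : A) (t : T), algebraMap A (C ⧸ I) a • t = a • t := fun a t => by
    induction t using Submodule.Quotient.induction_on with
    | _ v =>
      show Ideal.Quotient.mk I (algebraMap A C a) • (Submodule.Quotient.mk v : T) = _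
      exact (Submodule.Quotient.mk_smul _ (algebraMap A C a) v).symm
  have hB : ∀ (b : B) (c : C ⧸ I) (t : T), c • b • t = b • c • t := fun b c t => by
    rw [← algebraMap_smul C b t, ← algebraMap_smul C b (c • t)]
    obtain ⟨c, rfl⟩ := Ideal.Quotient.mk_surjective c
    induction t using Submodule.Quotient.induction_on with
    | _ v =>
      show Submodule.Quotient.mk (c • algebraMap B C b • v) = (Submodule.Quotient.mk (algebraMap B C b • c • v) : T)
      rw [smul_comm]
  let Φ' : N ⊗[A] p.ResidueField →ₗ[B] T :=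
    AlgebraTensorModule.lift
      { toFun := fun n =>
          { toFun := fun c => σ c • (Submodule.Quotient.mk (l n) : T)
            map_add' := fun c d => by rw [map_add, add_smul]
            map_smul' := fun a c => by
              rw [RingHom.id_apply, map_smul, Algebra.smul_def, mul_smul, hsc] }
        map_add' := fun n m => LinearMap.ext fun c => by
          show σ c • (Submodule.Quotient.mk (l (n + m)) : T) = _
          rw [map_add, Submodule.Quotient.mk_add, smul_add]; rfl
        map_smul' := fun b n => LinearMap.ext fun c => by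
          show σ c • (Submodule.Quotient.mk (l (b • n)) : T) = b • (σ c • (Submodule.Quotient.mk (l n) : T))
          rw [map_smul, Submodule.Quotient.mk_smul, hB] }
  have h1 : ∀ n : N, Φ' (n ⊗ₜ[A] (1 : p.ResidueField)) = Submodule.Quotient.mk (l n) := fun n => by
    show σ 1 • (Submodule.Quotient.mk (l n) : T) = _
    rw [map_one, one_smul]
  let Q : X → Prop := fun v => ∃ g ∉ P, ∃ n : N, g • v = l n ∧ n ⊗ₜ[A] (1 : p.ResidueField) = 0
  have hQadd : ∀ v w, Q v → Q w → Q (v + w) := fun v w ⟨g, hg, n, hn, hn'⟩ ⟨g', hg', m, hm, hm'⟩ => by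
    refine ⟨g * g', P.primeCompl.mul_mem hg hg', g' • n + g • m, ?_, ?_⟩
    · rw [map_add, map_smul, map_smul, ← hn, ← hm, smul_add, smul_smul, smul_smul, mul_comm g']
    · rw [TensorProduct.add_tmul, ← TensorProduct.smul_tmul', ← TensorProduct.smul_tmul', hn', hm', smul_zero,
        smul_zero, add_zero]
  have hQ0 : Q 0 := ⟨1, P.primeCompl.one_mem, 0, by rw [smul_zero, map_zero], TensorProduct.zero_tmul _ _⟩
  have hQI : ∀ r ∈ I, ∀ v, Q (r • v) := by
    intro r hr
    induction hr using Submodule.span_induction with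
    | mem r hr =>
      intro v
      obtain ⟨a, ha, rfl⟩ := hr
      obtain ⟨⟨n, g⟩, hn⟩ := IsLocalizedModule.surj P.primeCompl l v
      refine ⟨g, g.2, a • n, ?_, ?_⟩
      · rw [← algebraMap_smul B a n, map_smul, ← hn, algebraMap_smul, algebraMap_smul]
        exact smul_comm (g : B) a v
      · rw [← TensorProduct.smul_tmul', ← TensorProduct.tmul_smul, Algebra.smul_def,
          Ideal.algebraMap_residueField_eq_zero.2 ha, zero_mul, TensorProduct.tmul_zero]
    | zero => intro v; rw [zero_smul]; exact hQ0
    | add r s _ _ hr hs => intro v; rw [add_smul]; exact hQadd _ _ (hr v) (hs v)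
    | smul c r _ hr => intro v; rw [smul_eq_mul, mul_comm, mul_smul]; exact hr _
  have hQtop : ∀ v ∈ I • (⊤ : Submodule C X), Q v := fun v hv =>
    Submodule.smul_induction_on hv (fun r hr w _ => hQI r hr w) hQadd
  refine ⟨Φ'.comp (FiberMod.fiberModEquiv p B N).toLinearMap, fun g => ?_, fun t => ?_, fun {z w} h => ?_⟩
  · rw [Module.End.isUnit_iff]
    have hu : IsUnit (algebraMap B C g.1) := IsLocalization.map_units C g
    have e : ∀ t : T, algebraMap B C g.1 • t = g.1 • t := fun t => algebraMap_smul C g.1 t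
    have hb := hu.smul_bijective (β := T)
    convert hb using 1
    exact funext fun t => (e t).symm
  · induction t using Submodule.Quotient.induction_on with
    | _ v =>
      obtain ⟨⟨n, g⟩, hn⟩ := IsLocalizedModule.surj P.primeCompl l v
      refine ⟨⟨(FiberMod.fiberModEquiv p B N).symm (n ⊗ₜ[A] 1), g⟩, ?_⟩
      rw [LinearMap.comp_apply, LinearEquiv.coe_coe, LinearEquiv.apply_symm_apply, h1, ← hn]
      rfl
  · let y := FiberMod.fiberModEquiv p B N (z - w)
    obtain ⟨s, hs, n, hn⟩ := Generic.exists_smul_eq_tmul (B := B) p y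
    have hmem : l n ∈ I • (⊤ : Submodule C X) := by
      rw [← Submodule.Quotient.mk_eq_zero, ← h1, ← hn, map_smul]
      show algebraMap A B s • Φ' (FiberMod.fiberModEquiv p B N (z - w)) = 0
      rw [map_sub, map_sub, show Φ' (FiberMod.fiberModEquiv p B N z) = Φ' (FiberMod.fiberModEquiv p B N w) from h,
        sub_self, smul_zero]
    obtain ⟨g, hg, n', hn', hn''⟩ := hQtop _ hmem
    rw [← map_smul] at hn'
    obtain ⟨g', hg'⟩ := IsLocalizedModule.exists_of_eq (S := P.primeCompl) (f := l) hn'
    refine ⟨g' * ⟨g, hg⟩ * ⟨algebraMap A B s, fun h => hs ((Ideal.mem_of_liesOver P p s).2 h)⟩, ?_⟩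
    rw [← sub_eq_zero, ← smul_sub]
    apply (FiberMod.fiberModEquiv p B N).injective
    rw [map_zero, Submonoid.smul_def, map_smul, Submonoid.coe_mul, Submonoid.coe_mul, mul_smul, mul_smul]
    show (g' : B) • g • algebraMap A B s • y = 0
    rw [hn, TensorProduct.smul_tmul', TensorProduct.smul_tmul', show (g' : B) • g • n = (g' : B) • n' from hg',
      ← TensorProduct.smul_tmul', hn'', smul_zero]

variable [IsLocalRing C]

/-- Associated points of a fibre are detected in the stalk. -/
theorem assoc_iff [Algebra.FiniteType A B] (p : Ideal A) [p.IsPrime] (P : Ideal B) [P.IsPrime] [P.LiesOver p]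
    [IsLocalization.AtPrime C P] (l : N →ₗ[B] X) [IsLocalizedModule P.primeCompl l] :
    IsAssociatedPrime (IsLocalRing.maximalIdeal C) (X ⧸ (p.map (algebraMap A C) • (⊤ : Submodule C X))) ↔
      P ∈ associatedPrimes B (_root_.FlatCA.fiberMod p B N) := by
  obtain ⟨Φ, hΦ⟩ := exists_isLocalizedModule (C := C) p P l
  haveI := hΦ
  have hmax : (IsLocalRing.maximalIdeal C).comap (algebraMap B C) = P := IsLocalization.AtPrime.under_maximalIdeal C P
  refine ⟨fun hass => ?_, fun h =>
    Module.associatedPrimes.mem_associatedPrimes_of_comap_mem_associatedPrimes_of_isLocalizedModule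
      P.primeCompl Φ _ (hmax.symm ▸ h)⟩
  obtain ⟨-, x, hx⟩ := hass
  obtain ⟨⟨z, g⟩, hz⟩ := IsLocalizedModule.surj P.primeCompl Φ x
  have hmem : ∀ b : B, b ∈ P ↔ ∃ (k : ℕ) (t : B), t ∉ P ∧ (t * b ^ k) • z = 0 := fun b => by
    refine (show b ∈ P ↔ algebraMap B C b ∈ IsLocalRing.maximalIdeal C by
      conv_lhs => rw [← hmax]
      exact Iff.rfl).trans ?_
    rw [hx]
    refine exists_congr fun k => ?_
    rw [Submodule.mem_colon_singleton, Submodule.mem_bot, ← map_pow, algebraMap_smul]
    constructor
    · intro h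
      have h' : Φ (b ^ k • z) = 0 := by
        rw [map_smul, ← hz, smul_comm, h, smul_zero]
      obtain ⟨t, ht⟩ := (IsLocalizedModule.eq_zero_iff P.primeCompl Φ).1 h'
      exact ⟨t.1, t.2, by rw [mul_smul]; exact ht⟩
    · rintro ⟨t, ht, hzero⟩
      have h' : Φ (b ^ k • z) = 0 := (IsLocalizedModule.eq_zero_iff P.primeCompl Φ).2
        ⟨⟨t, ht⟩, by rw [Submonoid.smul_def, ← mul_smul]; exact hzero⟩
      rw [map_smul, ← hz, smul_comm] at h'
      exact ((Module.End.isUnit_iff _).1 (IsLocalizedModule.map_units Φ g)).injective (by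
        rw [map_zero]; exact h')
  letI : Module A N := Module.compHom N (algebraMap A B)
  haveI : IsScalarTower A B N := IsScalarTower.of_algebraMap_smul fun _ _ => rfl
  haveI : IsNoetherianRing (p.Fiber B) := Algebra.FiniteType.isNoetherianRing p.ResidueField _
  have hfg : (Ideal.span (Impurity.incl p '' (P : Set B))).FG := IsNoetherian.noetherian _
  obtain ⟨s, hsP, hs⟩ := (Submodule.fg_span_iff_fg_span_finset_subset _).1 hfg
  choose b hb hbe using fun x : s => hsP x.2
  choose k t ht hkt using fun x : s => (hmem (b x)).1 (hb x)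
  let G : B := ∏ x : s, t x
  refine ⟨inferInstance, G • z, le_antisymm ?_ fun c hc => ?_⟩
  · rw [← FibreAss.comap_colon, ← Ideal.comap_radical]
    intro c hc
    rw [Ideal.mem_comap]
    have hc' : Impurity.incl p c ∈ Submodule.span (p.Fiber B) (Impurity.incl p '' (P : Set B)) :=
      Submodule.subset_span ⟨c, hc, rfl⟩
    rw [hs] at hc'
    refine (Submodule.span_le (R := p.Fiber B)).2 (fun x hx => ?_) hc'
    rw [SetLike.mem_coe, ← show Impurity.incl p (b ⟨x, hx⟩) = x from hbe ⟨x, hx⟩]
    refine ⟨k ⟨x, hx⟩, ?_⟩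
    rw [Submodule.mem_colon_singleton, Submodule.mem_bot, ← map_pow, Impurity.incl_smul, smul_smul]
    obtain ⟨v, hv⟩ : t ⟨x, hx⟩ ∣ G := Finset.dvd_prod_of_mem t (Finset.mem_univ _)
    rw [hv, mul_comm (b _ ^ _), mul_assoc, mul_comm v, ← mul_assoc, mul_comm _ v, mul_smul, hkt, smul_zero]
  · obtain ⟨n, hn⟩ := hc
    rw [Submodule.mem_colon_singleton, Submodule.mem_bot, smul_smul, mul_comm] at hn
    exact (hmem c).2 ⟨n, G, fun hG => by
      obtain ⟨x, -, hx⟩ := (Ideal.IsPrime.prod_mem_iff (p := P) (s := Finset.univ) (x := t)).1 hG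
      exact ht x hx, hn⟩

end Groth.Agent.Lib.RelAss.Stalk
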