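import Groth.Agent.Lib.RelAss.Stalk
import Groth.Agent.H20.ValFlat
import Groth.Agent.S2049

/-!
# Relative associated points over a valuation ring
-/

universe u

open TensorProduct

set_option linter.style.haveILetI false

namespace Groth.Agent.Lib.RelAss.Valuation

variable {V B : Type u} [CommRing V] [IsDomain V] [ValuationRing V] [CommRing B] [Algebra V B]
  [Algebra.FiniteType V B] {M : Type u} [AddCommGroup M] [Module B M] [Module V M] [IsScalarTower V B M]
  [Module.Finite B M] (P : Ideal B) [P.IsPrime] [P.LiesOver (IsLocalRing.maximalIdeal V)]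

local notation "Cp" => Localization.AtPrime P
local notation "Xp" => LocalizedModule P.primeCompl M

theorem isLocalHom : IsLocalHom (algebraMap V Cp) := ⟨fun a ha => by
  by_contra hna
  have h1 : algebraMap B Cp (algebraMap V B a) ∈ IsLocalRing.maximalIdeal Cp :=
    (IsLocalization.AtPrime.to_map_mem_maximal_iff Cp P _).2
      ((Ideal.mem_of_liesOver P (IsLocalRing.maximalIdeal V) a).1 hna)
  rw [← IsScalarTower.algebraMap_apply] at h1
  exact h1 ha⟩

omit [IsDomain V] [ValuationRing V] [Algebra.FiniteType V B] [Module.Finite B M] in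
theorem smul_top_restrictScalars [IsLocalRing V] :
    ((IsLocalRing.maximalIdeal V).map (algebraMap V Cp) • (⊤ : Submodule Cp Xp)).restrictScalars V =
      IsLocalRing.maximalIdeal V • (⊤ : Submodule V Xp) := by
  rw [Submodule.restrictScalars_map_smul_eq, Submodule.restrictScalars_top]

omit [IsDomain V] [ValuationRing V] [Algebra.FiniteType V B] [Module.Finite B M] in
theorem smul_mem_smul_top [IsLocalRing V] {z : M} (b : B) (hz : z ∈ IsLocalRing.maximalIdeal V • (⊤ : Submodule V M)) :
    b • z ∈ IsLocalRing.maximalIdeal V • (⊤ : Submodule V M) :=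
  Submodule.smul_induction_on hz (fun a ha v _ => by
    rw [smul_comm]; exact Submodule.smul_mem_smul ha Submodule.mem_top) fun v v' h h' => by
    rw [smul_add]; exact add_mem h h'

omit [IsDomain V] [ValuationRing V] [Algebra.FiniteType V B] [Module.Finite B M] in
theorem smul_mem_stalk [IsLocalRing V] {y : Xp} (c : Cp) (hy : y ∈ IsLocalRing.maximalIdeal V • (⊤ : Submodule V Xp)) :
    c • y ∈ IsLocalRing.maximalIdeal V • (⊤ : Submodule V Xp) := by
  rw [← smul_top_restrictScalars (M := M) P] at hy ⊢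
  exact Submodule.smul_mem _ c hy

/-- A flat point of the closed fibre generic over an associated point of the generic fibre is associated. -/
theorem assoc_special (Q : Ideal B) (hQP : Q ≤ P) (hflat : _root_.FlatCA.FlatAt V P M) (x : M)
    (hQ1 : ∀ b ∈ Q, ∃ (k : ℕ) (a : V), a ≠ 0 ∧ a • (b ^ k • x) = 0) (hQ2 : ∀ b : B, b • x = 0 → b ∈ Q)
    (hmin : ∀ P₂ : Ideal B, P₂.IsPrime → P₂.LiesOver (IsLocalRing.maximalIdeal V) → Q ≤ P₂ → P₂ ≤ P → P ≤ P₂) :
    P ∈ associatedPrimes B (_root_.FlatCA.fiberMod (IsLocalRing.maximalIdeal V) B M) := by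
  haveI := isLocalHom (V := V) P
  haveI : Algebra.EssFiniteType B Cp := Algebra.EssFiniteType.of_isLocalization _ P.primeCompl
  haveI : Algebra.EssFiniteType V Cp := Algebra.EssFiniteType.comp V B Cp
  haveI : Module.Flat V Xp := hflat
  haveI : Module.Finite Cp Xp := Module.Finite.of_isLocalizedModule P.primeCompl (LocalizedModule.mkLinearMap P.primeCompl M)
  let m := IsLocalRing.maximalIdeal V
  let I : Ideal Cp := m.map (algebraMap V Cp)
  let l := LocalizedModule.mkLinearMap P.primeCompl M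
  refine (Stalk.assoc_iff (C := Cp) (X := Xp) m P l).1 ?_
  let x' : Xp := l x
  have hx' : x' ≠ 0 := fun h => by
    obtain ⟨t, ht⟩ := (IsLocalizedModule.eq_zero_iff P.primeCompl l).1 h
    exact t.2 (hQP (hQ2 t.1 ht))
  let N : Submodule Cp Xp :=
    { carrier := {y | ∃ a : V, a ≠ 0 ∧ ∃ c : Cp, a • y = c • x'}
      add_mem' := by
        rintro y z ⟨a, ha, c, hc⟩ ⟨b, hb, d, hd⟩
        refine ⟨a * b, mul_ne_zero ha hb, b • c + a • d, ?_⟩
        rw [smul_add, add_smul, smul_assoc, smul_assoc, ← hc, ← hd, smul_smul, smul_smul, mul_comm b a]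
      zero_mem' := ⟨1, one_ne_zero, 0, by rw [smul_zero, zero_smul]⟩
      smul_mem' := by
        rintro e y ⟨a, ha, c, hc⟩
        exact ⟨a, ha, e * c, by rw [smul_comm, hc, mul_smul]⟩ }
  have htf : ∀ (a : V) (y : Xp ⧸ N), a ≠ 0 → a • y = 0 → y = 0 := fun a y ha hy => by
    obtain ⟨y, rfl⟩ := Submodule.Quotient.mk_surjective N y
    rw [← Submodule.Quotient.mk_smul, Submodule.Quotient.mk_eq_zero] at hy
    obtain ⟨b, hb, c, hc⟩ := hy
    exact (Submodule.Quotient.mk_eq_zero N).2 ⟨b * a, mul_ne_zero hb ha, c, by rw [mul_smul, hc]⟩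
  haveI : Module.Flat V (Xp ⧸ N) := H20.ValLoc.flat_of_torsionFree htf
  haveI : Module.FinitePresentation Cp (Xp ⧸ N) := Groth.Agent.S2049.result (A := V)
  have hNfg : N.FG := by
    rw [← Submodule.ker_mkQ N]
    exact Module.FinitePresentation.fg_ker _ (Submodule.mkQ_surjective N)
  obtain ⟨y, hyN, hy⟩ : ∃ y ∈ N, y ∉ I • (⊤ : Submodule Cp Xp) := by
    by_contra hcon
    push Not at hcon
    have hle : N ≤ I • N := fun y hy => by
      have h0 : y ∈ m • (⊤ : Submodule V Xp) := by
        rw [← smul_top_restrictScalars (M := M) P]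
        exact hcon y hy
      have h1 := H20.ValLoc.mem_smul_ker_of_flat m (N.mkQ.restrictScalars V) (Submodule.mkQ_surjective N)
        ((Submodule.Quotient.mk_eq_zero N).2 hy) h0
      refine Submodule.smul_induction_on h1 (fun a ha z hz => ?_) fun _ _ => add_mem
      rw [← algebraMap_smul Cp a z]
      exact Submodule.smul_mem_smul (Ideal.mem_map_of_mem _ ha) ((Submodule.Quotient.mk_eq_zero N).1 hz)
    have hjac : I ≤ Ideal.jacobson ⊥ := by
      rw [IsLocalRing.jacobson_eq_maximalIdeal ⊥ bot_ne_top, Ideal.map_le_iff_le_comap]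
      exact fun a ha hu => ha (IsUnit.of_map (algebraMap V Cp) a hu)
    refine hx' ?_
    have hmem : x' ∈ N := ⟨1, one_ne_zero, 1, by rw [one_smul, one_smul]⟩
    rwa [Submodule.eq_bot_of_le_smul_of_le_jacobson_bot I N hNfg hle hjac, Submodule.mem_bot] at hmem
  let y' : Xp ⧸ (I • (⊤ : Submodule Cp Xp)) := Submodule.Quotient.mk y
  refine ⟨inferInstance, y', le_antisymm ?_ ?_⟩
  · rw [Ideal.radical_eq_sInf]
    refine le_sInf fun r ⟨hr, hrp⟩ => ?_
    haveI := hrp
    have hkill : ∀ c ∈ I, c ∈ r := fun c hc => hr (by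
      rw [Submodule.mem_colon_singleton, Submodule.mem_bot, ← Submodule.Quotient.mk_smul, Submodule.Quotient.mk_eq_zero]
      exact Submodule.smul_mem_smul hc Submodule.mem_top)
    let P₂ := r.comap (algebraMap B Cp)
    have hrP : P₂ ≤ P := (Ideal.comap_mono (IsLocalRing.le_maximalIdeal hrp.ne_top)).trans
      (IsLocalization.AtPrime.under_maximalIdeal Cp P).le
    have hP₂ : P₂.LiesOver m := by
      refine ⟨le_antisymm (fun a ha => ?_) fun a ha => ?_⟩
      · show algebraMap B Cp (algebraMap V B a) ∈ r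
        rw [← IsScalarTower.algebraMap_apply]
        exact hkill _ (Ideal.mem_map_of_mem _ ha)
      · exact (Ideal.mem_of_liesOver P m a).2 (hrP ha)
    have hQ : Q ≤ P₂ := fun b hb => by
      obtain ⟨k, a, ha, hab⟩ := hQ1 b hb
      obtain ⟨a', ha', c, hc⟩ := hyN
      refine (inferInstance : r.IsPrime).mem_of_pow_mem k (hr ?_)
      rw [Submodule.mem_colon_singleton, Submodule.mem_bot, ← map_pow, algebraMap_smul]
      have h0 : (a * a') • (b ^ k • y) = 0 := by
        rw [mul_smul, smul_comm a' (b ^ k) y, hc, smul_comm (b ^ k) c x', smul_comm a c (b ^ k • x'),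
          show a • b ^ k • x' = 0 from by rw [← map_smul, ← LinearMap.map_smul_of_tower, hab, map_zero], smul_zero]
      have h1 := H20.ValLoc.torsionFree_of_flat (A := V) (M := Xp) _ _ (mul_ne_zero ha ha') h0
      show Submodule.Quotient.mk (b ^ k • y) = (0 : Xp ⧸ (I • (⊤ : Submodule Cp Xp)))
      rw [h1, Submodule.Quotient.mk_zero]
    have hPle := hmin P₂ inferInstance hP₂ hQ hrP
    rw [← IsLocalization.AtPrime.map_eq_maximalIdeal P Cp]
    exact Ideal.map_le_iff_le_comap.2 hPle
  · refine IsLocalRing.le_maximalIdeal fun htop => hy ?_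
    rw [Ideal.radical_eq_top, Ideal.eq_top_iff_one, Submodule.mem_colon_singleton, one_smul, Submodule.mem_bot,
      Submodule.Quotient.mk_eq_zero] at htop
    exact htop

/-- A function regular on the closed fibre at a flat point avoids the associated points of the generic fibre below it. -/
theorem not_mem_of_regular (Q : Ideal B) (hQP : Q ≤ P) (hflat : _root_.FlatCA.FlatAt V P M) (x : M)
    (hQ1 : ∀ b ∈ Q, ∃ (k : ℕ) (a : V), a ≠ 0 ∧ a • (b ^ k • x) = 0) (hQ2 : ∀ b : B, b • x = 0 → b ∈ Q) (g : B)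
    (hg : ∀ z : M, g • z ∈ IsLocalRing.maximalIdeal V • (⊤ : Submodule V M) →
      ∃ w ∉ P, w • z ∈ IsLocalRing.maximalIdeal V • (⊤ : Submodule V M)) :
    g ∉ Q := by
  intro hgQ
  haveI := isLocalHom (V := V) P
  haveI : Algebra.EssFiniteType B Cp := Algebra.EssFiniteType.of_isLocalization _ P.primeCompl
  haveI : Algebra.EssFiniteType V Cp := Algebra.EssFiniteType.comp V B Cp
  haveI : Module.Flat V Xp := hflat
  haveI : Module.Finite Cp Xp := Module.Finite.of_isLocalizedModule P.primeCompl (LocalizedModule.mkLinearMap P.primeCompl M)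
  let m := IsLocalRing.maximalIdeal V
  let l := LocalizedModule.mkLinearMap P.primeCompl M
  let φ : Xp →ₗ[Cp] Xp := LinearMap.lsmul Cp Xp (algebraMap B Cp g)
  have hφ : ∀ y : Xp, φ y = g • y := fun y => algebraMap_smul Cp g y
  have hl : ∀ v ∈ m • (⊤ : Submodule V Xp), ∃ s ∉ P, ∃ z : M, z ∈ m • (⊤ : Submodule V M) ∧ s • v = l z := by
    intro v hv
    refine Submodule.smul_induction_on hv (fun a ha w _ => ?_) ?_
    · obtain ⟨⟨z, s⟩, hz⟩ := IsLocalizedModule.surj P.primeCompl l w
      refine ⟨s.1, s.2, a • z, Submodule.smul_mem_smul ha Submodule.mem_top, ?_⟩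
      rw [LinearMap.map_smul_of_tower, ← hz]
      exact smul_comm (s : B) a w
    · rintro v w ⟨s, hs, z, hz, h⟩ ⟨s', hs', z', hz', h'⟩
      refine ⟨s * s', P.primeCompl.mul_mem hs hs', s' • z + s • z', add_mem (smul_mem_smul_top _ hz) (smul_mem_smul_top _ hz'), ?_⟩
      rw [map_add, map_smul, map_smul, ← h, ← h', smul_add, smul_smul, smul_smul, mul_comm s']
  have hinj := (H20.ValFlat.injective_and_flat_coker (A := V) φ fun y hy => by
    rw [hφ] at hy
    obtain ⟨⟨z, t⟩, hz⟩ := IsLocalizedModule.surj P.primeCompl l y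
    obtain ⟨s, hs, z', hz', hz''⟩ := hl _ hy
    have h1 : l ((s * g) • z) = l ((t : B) • z') := by
      simp only [map_smul, ← hz'', ← hz, Submonoid.smul_def, smul_smul]
      congr 1
      ring
    obtain ⟨u', hu'⟩ := IsLocalizedModule.exists_of_eq (S := P.primeCompl) (f := l) h1
    have h2 : g • (((u' : B) * s) • z) ∈ m • (⊤ : Submodule V M) := by
      rw [smul_smul, mul_comm, mul_assoc, mul_smul, show (u' : B) • (s * g) • z = _ from hu', Submonoid.smul_def,
        smul_smul]
      exact smul_mem_smul_top _ hz'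
    obtain ⟨w, hw, hw'⟩ := hg _ h2
    have h3 : (w * ((u' : B) * s) * (t : B)) • y ∈ m • (⊤ : Submodule V Xp) := by
      rw [mul_smul, show (t : B) • y = l z from hz, ← map_smul, mul_smul]
      refine Submodule.smul_induction_on hw' (fun a ha v _ => ?_) fun v v' hv hv' => by rw [map_add]; exact add_mem hv hv'
      rw [LinearMap.map_smul_of_tower]
      exact Submodule.smul_mem_smul ha Submodule.mem_top
    have hu : IsUnit (algebraMap B Cp (w * ((u' : B) * s) * (t : B))) :=
      IsLocalization.map_units Cp (⟨_, P.primeCompl.mul_mem (P.primeCompl.mul_mem hw (P.primeCompl.mul_mem u'.2 hs)) t.2⟩ :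
        P.primeCompl)
    rw [← algebraMap_smul Cp (_ : B) y] at h3
    have h4 := smul_mem_stalk (M := M) P hu.unit⁻¹.1 h3
    rwa [smul_smul, IsUnit.val_inv_mul, one_smul] at h4).1
  obtain ⟨k, a, ha, hak⟩ := hQ1 g hgQ
  have h1 : g ^ k • l x = 0 := H20.ValLoc.torsionFree_of_flat (A := V) (M := Xp) a _ ha (by
    rw [← map_smul, ← LinearMap.map_smul_of_tower, hak, map_zero])
  have h2 : l x = 0 := by
    clear hak
    induction k with
    | zero => rwa [pow_zero, one_smul] at h1
    | succ k ih =>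
      refine ih (hinj ?_)
      rw [map_zero, hφ, smul_smul, ← pow_succ', h1]
  obtain ⟨t, ht⟩ := (IsLocalizedModule.eq_zero_iff P.primeCompl l).1 h2
  exact t.2 (hQP (hQ2 t.1 ht))

end Groth.Agent.Lib.RelAss.Valuation
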